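import Mathlib

/-!
# S4719, piece C (first half): a Brauer–Fowler count for an involutory automorphism

`T` a finite group, `φ` an endomorphism with `φ ∘ φ = id` and at most `c` fixed points.  Then either
`|T| < 2c²` or some `g ≠ 1` has `|T| ≤ 2c² |C_T(g)|`.

Proof.  `τ b = φ(b)⁻¹ b`, `J` the image of `τ`; `|T| ≤ c |J|`.  For `j₁ j₂ ∈ J` the element
`g = j₁⁻¹ j₂` satisfies `φ (j₁ g j₁⁻¹) = g⁻¹`, and the `j` with `φ (j g j⁻¹) = g⁻¹` form at most one
coset of `C_T(g)`; so `|J|² ≤ |J| + ∑_{g ≠ 1} |C_T(g)|`.
-/

set_option autoImplicit false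
set_option linter.style.haveILetI false

namespace Cfsg.Agent.DC2

universe u

open Classical in
/-- the counting inequality -/
theorem dc2_bfa_ineq {T : Type u} [Group T] [Fintype T] (φ : T →* T) (hφ : ∀ t, φ (φ t) = t)
    (c : ℕ) (hc : Nat.card {t : T // φ t = t} ≤ c) :
    ∃ J : Finset T, Fintype.card T ≤ c * J.card ∧ J.card ≤ Fintype.card T ∧
      J.card * J.card ≤ J.card + ∑ g ∈ (Finset.univ : Finset T).filter (fun g => g ≠ 1),
        Nat.card (Subgroup.centralizer ({g} : Set T)) := by
  have hφinj : Function.Injective φ := fun a b h => by rw [← hφ a, ← hφ b, h]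
  obtain ⟨τ, hτ⟩ : ∃ τ : T → T, τ = fun b => (φ b)⁻¹ * b := ⟨_, rfl⟩
  have hτφ : ∀ b, φ (τ b) = (τ b)⁻¹ := by
    intro b
    rw [hτ]
    simp only [map_mul, map_inv, hφ, mul_inv_rev, inv_inv]
  refine ⟨Finset.univ.image τ, ?_, ?_, ?_⟩
  · -- `|T| ≤ c |J|`
    have h := Finset.card_le_mul_card_image (f := τ) (Finset.univ : Finset T) c ?_
    · simpa using h
    · intro a ha
      obtain ⟨b0, -, hb0⟩ := Finset.mem_image.mp ha
      haveI : Fintype {t : T // φ t = t} := Fintype.ofFinite _
      have h1 : ((Finset.univ : Finset T).filter (fun b => τ b = a)).card ≤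
          (Finset.univ : Finset {t : T // φ t = t}).card := by
        refine Finset.card_le_card_of_injOn
          (fun b => if h : φ (b * b0⁻¹) = b * b0⁻¹ then ⟨b * b0⁻¹, h⟩ else ⟨1, map_one φ⟩) ?_ ?_
        · intro b _
          exact Finset.mem_univ _
        · intro b hb b' hb'
          have hb1 : τ b = a := (Finset.mem_filter.mp hb).2
          have hb1' : τ b' = a := (Finset.mem_filter.mp hb').2
          have key : ∀ d : T, τ d = a → φ (d * b0⁻¹) = d * b0⁻¹ := by
            intro d hd
            have h2 : (φ d)⁻¹ * d = (φ b0)⁻¹ * b0 := by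
              have := hd.trans hb0.symm
              rw [hτ] at this
              exact this
            rw [map_mul, map_inv]
            have h3 : d = φ d * ((φ b0)⁻¹ * b0) := by rw [← h2]; group
            calc φ d * (φ b0)⁻¹ = φ d * ((φ b0)⁻¹ * b0) * b0⁻¹ := by group
              _ = d * b0⁻¹ := by rw [← h3]
          intro heq
          simp only at heq
          rw [dif_pos (key b hb1), dif_pos (key b' hb1')] at heq
          have := congrArg Subtype.val heq
          simp only at this
          exact mul_right_cancel this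
      calc ((Finset.univ : Finset T).filter (fun b => τ b = a)).card
          ≤ (Finset.univ : Finset {t : T // φ t = t}).card := h1
        _ = Nat.card {t : T // φ t = t} := by
            rw [Finset.card_univ, Nat.card_eq_fintype_card]
        _ ≤ c := hc
  · calc (Finset.univ.image τ).card ≤ (Finset.univ : Finset T).card := Finset.card_image_le
      _ = Fintype.card T := Finset.card_univ
  · -- the pair count
    set J := Finset.univ.image τ with hJ
    have hJφ : ∀ j ∈ J, φ j = j⁻¹ := by
      intro j hj
      obtain ⟨b, -, rfl⟩ := Finset.mem_image.mp hj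
      exact hτφ b
    have hcount := Finset.card_eq_sum_card_fiberwise (f := fun q : T × T => q.1⁻¹ * q.2)
      (s := J ×ˢ J) (t := (Finset.univ : Finset T)) (fun _ _ => Finset.mem_coe.mpr (Finset.mem_univ _))
    rw [Finset.card_product] at hcount
    rw [hcount]
    rw [← Finset.sum_filter_add_sum_filter_not (Finset.univ : Finset T) (fun g => g = 1)]
    apply Nat.add_le_add
    · -- the fibre over `1`
      have hone : (Finset.univ : Finset T).filter (fun g => g = 1) = {1} := by
        ext z
        simp
      rw [hone, Finset.sum_singleton]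
      refine Finset.card_le_card_of_injOn (fun q => q.1) ?_ ?_
      · intro q hq
        exact (Finset.mem_product.mp (Finset.mem_filter.mp hq).1).1
      · intro q hq q' hq' h
        have h1 : q.1⁻¹ * q.2 = 1 := (Finset.mem_filter.mp hq).2
        have h1' : q'.1⁻¹ * q'.2 = 1 := (Finset.mem_filter.mp hq').2
        have e1 : q.2 = q.1 := by
          have := inv_mul_eq_one.mp h1
          exact this.symm
        have e1' : q'.2 = q'.1 := by
          have := inv_mul_eq_one.mp h1'
          exact this.symm
        simp only at h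
        exact Prod.ext h (by rw [e1, e1', h])
    · -- the fibres over `g ≠ 1`
      apply Finset.sum_le_sum
      intro g _
      by_cases hne : ((J ×ˢ J).filter (fun q : T × T => q.1⁻¹ * q.2 = g)).Nonempty
      · obtain ⟨q0, hq0⟩ := hne
        have hq0J := Finset.mem_product.mp (Finset.mem_filter.mp hq0).1
        have hq0g : q0.1⁻¹ * q0.2 = g := (Finset.mem_filter.mp hq0).2
        -- for a member `q` of the fibre, `q.1 g q.1⁻¹` is determined
        have key : ∀ q ∈ (J ×ˢ J).filter (fun q : T × T => q.1⁻¹ * q.2 = g),
            φ (q.1 * g * q.1⁻¹) = g⁻¹ := by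
          intro q hq
          have hqJ := Finset.mem_product.mp (Finset.mem_filter.mp hq).1
          have hqg : q.1⁻¹ * q.2 = g := (Finset.mem_filter.mp hq).2
          have h1 : q.1 * g * q.1⁻¹ = q.2 * q.1⁻¹ := by rw [← hqg]; group
          rw [h1, map_mul, map_inv, hJφ _ hqJ.1, hJφ _ hqJ.2, ← hqg]
          group
        haveI : Fintype ↥(Subgroup.centralizer ({g} : Set T)) := Fintype.ofFinite _
        have h2 : ((J ×ˢ J).filter (fun q : T × T => q.1⁻¹ * q.2 = g)).card ≤
            (Finset.univ : Finset ↥(Subgroup.centralizer ({g} : Set T))).card := by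
          refine Finset.card_le_card_of_injOn
            (fun q => if h : q0.1⁻¹ * q.1 ∈ Subgroup.centralizer ({g} : Set T)
              then ⟨q0.1⁻¹ * q.1, h⟩ else 1) ?_ ?_
          · intro q _
            exact Finset.mem_univ _
          · intro q hq q' hq'
            have mem : ∀ r ∈ (J ×ˢ J).filter (fun q : T × T => q.1⁻¹ * q.2 = g),
                q0.1⁻¹ * r.1 ∈ Subgroup.centralizer ({g} : Set T) := by
              intro r hr
              rw [Subgroup.mem_centralizer_singleton_iff]
              have e : r.1 * g * r.1⁻¹ = q0.1 * g * q0.1⁻¹ :=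
                hφinj ((key r hr).trans (key q0 hq0).symm)
              calc q0.1⁻¹ * r.1 * g = q0.1⁻¹ * (r.1 * g * r.1⁻¹) * r.1 := by group
                _ = q0.1⁻¹ * (q0.1 * g * q0.1⁻¹) * r.1 := by rw [e]
                _ = g * (q0.1⁻¹ * r.1) := by group
            intro heq
            simp only at heq
            rw [dif_pos (mem q hq), dif_pos (mem q' hq')] at heq
            have h3 := congrArg Subtype.val heq
            simp only at h3
            have h4 : q.1 = q'.1 := mul_left_cancel h3
            have hqg : q.1⁻¹ * q.2 = g := (Finset.mem_filter.mp hq).2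
            have hqg' : q'.1⁻¹ * q'.2 = g := (Finset.mem_filter.mp hq').2
            have h5 : q.2 = q'.2 := by
              have a1 : q.2 = q.1 * g := by rw [← hqg]; group
              have a2 : q'.2 = q'.1 * g := by rw [← hqg']; group
              rw [a1, a2, h4]
            exact Prod.ext h4 h5
        calc ((J ×ˢ J).filter (fun q : T × T => q.1⁻¹ * q.2 = g)).card
            ≤ (Finset.univ : Finset ↥(Subgroup.centralizer ({g} : Set T))).card := h2
          _ = Nat.card ↥(Subgroup.centralizer ({g} : Set T)) := by
              rw [Finset.card_univ, Nat.card_eq_fintype_card]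
      · rw [Finset.not_nonempty_iff_eq_empty.mp hne, Finset.card_empty]
        exact Nat.zero_le _

/-- **the dichotomy**: `|T| < 2c²` or some non-identity element has a centralizer of index at most
`2c²`. -/
theorem dc2_bfa_count {T : Type u} [Group T] [Finite T] (φ : T →* T) (hφ : ∀ t, φ (φ t) = t)
    (c : ℕ) (hc : Nat.card {t : T // φ t = t} ≤ c) :
    Nat.card T < 2 * c ^ 2 ∨ ∃ g : T, g ≠ 1 ∧
      Nat.card T ≤ 2 * c ^ 2 * Nat.card (Subgroup.centralizer ({g} : Set T)) := by
  classical
  haveI : Fintype T := Fintype.ofFinite T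
  by_contra hcon
  push Not at hcon
  obtain ⟨h1, h2⟩ := hcon
  obtain ⟨J, hJ1, hJ2, hJ3⟩ := dc2_bfa_ineq φ hφ c hc
  rw [Nat.card_eq_fintype_card] at h1
  have hn1 : 1 ≤ Fintype.card T := Fintype.card_pos
  obtain ⟨m, hm⟩ : ∃ m, Fintype.card T = m + 1 := ⟨Fintype.card T - 1, by omega⟩
  have hfilt : ((Finset.univ : Finset T).filter (fun g => g ≠ 1)).card = m := by
    have h : ((Finset.univ : Finset T).filter (fun g => g = 1)).card +
        ((Finset.univ : Finset T).filter (fun g => g ≠ 1)).card = (Finset.univ : Finset T).card :=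
      Finset.card_filter_add_card_filter_not (s := (Finset.univ : Finset T)) (fun g => g = 1)
    have hone : (Finset.univ : Finset T).filter (fun g => g = 1) = {1} := by
      ext z
      simp
    rw [hone, Finset.card_singleton, Finset.card_univ, hm] at h
    omega
  have hS : 2 * c ^ 2 * (∑ g ∈ (Finset.univ : Finset T).filter (fun g => g ≠ 1),
      Nat.card (Subgroup.centralizer ({g} : Set T))) + m ≤ m * (m + 1) := by
    have h3 : ∑ g ∈ (Finset.univ : Finset T).filter (fun g => g ≠ 1),
        (2 * c ^ 2 * Nat.card (Subgroup.centralizer ({g} : Set T)) + 1) ≤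
        ∑ _g ∈ (Finset.univ : Finset T).filter (fun g => g ≠ 1), (m + 1) := by
      apply Finset.sum_le_sum
      intro g hg
      have hg1 : g ≠ 1 := (Finset.mem_filter.mp hg).2
      have := h2 g hg1
      rw [Nat.card_eq_fintype_card (α := T), hm] at this
      omega
    rw [Finset.sum_add_distrib, Finset.sum_const, Finset.sum_const, hfilt, ← Finset.mul_sum,
      smul_eq_mul, smul_eq_mul, mul_one] at h3
    exact h3
  set S := ∑ g ∈ (Finset.univ : Finset T).filter (fun g => g ≠ 1),
      Nat.card (Subgroup.centralizer ({g} : Set T)) with hSdef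
  set i := J.card with hi
  rw [hm] at hJ1 hJ2 h1
  -- arithmetic
  have e1 : 2 * c ^ 2 * (i * i) ≤ 2 * c ^ 2 * i + 2 * c ^ 2 * S := by
    have := Nat.mul_le_mul_left (2 * c ^ 2) hJ3
    rw [mul_add] at this
    exact this
  have e2 : (m + 1) * (m + 1) ≤ c ^ 2 * (i * i) := by
    have := Nat.mul_le_mul hJ1 hJ1
    calc (m + 1) * (m + 1) ≤ c * i * (c * i) := this
      _ = c ^ 2 * (i * i) := by ring
  have e3 : 2 * c ^ 2 * i ≤ (m + 1) * (m + 1) := Nat.mul_le_mul h1 hJ2
  nlinarith

end Cfsg.Agent.DC2
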