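import Mathlib

/-!
# S4719, piece C2a / C2b / C2d (helper1): three Mathlib-only lemmas for the Brauer–Fowler induction

* `dc2_fpf_comm`: a fixed-point-free involutory endomorphism of a finite group inverts every
  element, so the group is commutative.
* `dc2_index_centralizer_le`: `|T : C_T(L)| ≤ |L|!` for `L` normal in `T`.
* `dc2_closure_card`: if `|T : C_T(g)| ≤ k` and the normal closure `L₀` of `g` has trivial centre
  (in the form `L₀ ⊓ C_T(L₀) = ⊥`), then `|L₀| ≤ k!`.
-/

set_option autoImplicit false
set_option linter.style.haveILetI false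

namespace Cfsg.Agent.DC2

universe u

/-- **C2a** -/
theorem dc2_fpf_comm {L : Type u} [Group L] [Finite L] (φ : L →* L) (hφ : ∀ t, φ (φ t) = t)
    (hfix : ∀ t, φ t = t → t = 1) (a b : L) : a * b = b * a := by
  have hinj : Function.Injective (fun t : L => (φ t)⁻¹ * t) := by
    intro s t hst
    have hst' : (φ s)⁻¹ * s = (φ t)⁻¹ * t := hst
    have h1 : φ (t * s⁻¹) = t * s⁻¹ := by
      rw [map_mul, map_inv]
      calc φ t * (φ s)⁻¹ = φ t * ((φ s)⁻¹ * s) * s⁻¹ := by group
        _ = φ t * ((φ t)⁻¹ * t) * s⁻¹ := by rw [hst']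
        _ = t * s⁻¹ := by group
    have h2 := hfix _ h1
    exact (mul_inv_eq_one.mp h2).symm
  have hsurj := Finite.surjective_of_injective hinj
  have hinvt : ∀ u : L, φ u = u⁻¹ := by
    intro u
    obtain ⟨t, rfl⟩ := hsurj u
    show φ ((φ t)⁻¹ * t) = ((φ t)⁻¹ * t)⁻¹
    rw [map_mul, map_inv, hφ]
    group
  have h1 := hinvt (a * b)
  rw [map_mul, hinvt a, hinvt b] at h1
  have h2 : a⁻¹ * b⁻¹ = b⁻¹ * a⁻¹ := by
    rw [h1]
    group
  have h3 := congrArg (fun z => z⁻¹) h2
  simp only [mul_inv_rev, inv_inv] at h3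
  exact h3.symm

/-- **C2b** -/
theorem dc2_index_centralizer_le {T : Type u} [Group T] [Finite T] (L : Subgroup T) [L.Normal] :
    (Subgroup.centralizer (L : Set T)).index ≤ (Nat.card L).factorial := by
  classical
  let f : T →* Equiv.Perm L := (MulAut.toPerm L).comp (MulAut.conjNormal (H := L))
  have hf : ∀ (t : T) (l : L), ((f t l : L) : T) = t * (l : T) * t⁻¹ := by
    intro t l
    rfl
  have hker : f.ker = Subgroup.centralizer (L : Set T) := by
    ext t
    rw [MonoidHom.mem_ker, Subgroup.mem_centralizer_iff]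
    constructor
    · intro h l hl
      have h1 : ((f t ⟨l, hl⟩ : L) : T) = l := by
        rw [h]
        rfl
      rw [hf] at h1
      have h2 : t * l = l * t := by
        calc t * l = t * l * t⁻¹ * t := by group
          _ = l * t := by rw [h1]
      exact h2.symm
    · intro h
      ext l
      rw [hf]
      have h1 := h (l : T) l.2
      show t * (l : T) * t⁻¹ = ((1 : Equiv.Perm L) l : L)
      rw [Equiv.Perm.coe_one, id_eq, ← h1]
      group
  rw [← hker, Subgroup.index_ker]
  calc Nat.card f.range ≤ Nat.card (Equiv.Perm L) :=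
        Nat.card_le_card_of_injective _ (Subgroup.subtype_injective _)
    _ = (Nat.card L).factorial := Nat.card_perm

/-- a subgroup meeting a normal subgroup trivially embeds in the quotient -/
theorem dc2_card_le_index {T : Type u} [Group T] [Finite T] (A N : Subgroup T) [N.Normal]
    (h : A ⊓ N = ⊥) : Nat.card A ≤ N.index := by
  let f : A →* T ⧸ N := (QuotientGroup.mk' N).comp A.subtype
  have hinj : Function.Injective f := by
    rw [injective_iff_map_eq_one]
    intro a ha
    have h1 : (a : T) ∈ N := by
      have h2 : ((a : T) : T ⧸ N) = 1 := ha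
      exact (QuotientGroup.eq_one_iff (a : T)).mp h2
    have h3 : (a : T) ∈ A ⊓ N := ⟨a.2, h1⟩
    rw [h] at h3
    exact Subtype.ext (Subgroup.mem_bot.mp h3)
  have h4 := Nat.card_le_card_of_injective f hinj
  rw [Subgroup.index_eq_card]
  exact h4

/-- **C2d** -/
theorem dc2_closure_card {T : Type u} [Group T] [Finite T] (g : T) (k : ℕ)
    (hk : (Subgroup.centralizer ({g} : Set T)).index ≤ k)
    (hZ : Subgroup.normalClosure ({g} : Set T) ⊓
      Subgroup.centralizer (Subgroup.normalClosure ({g} : Set T) : Set T) = ⊥) :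
    Nat.card (Subgroup.normalClosure ({g} : Set T)) ≤ k.factorial := by
  classical
  set C : Subgroup T := Subgroup.centralizer ({g} : Set T) with hC
  set N : Subgroup T := C.normalCore with hN
  haveI : N.Normal := Subgroup.normalCore_normal C
  -- index bound
  have hNidx : N.index ≤ k.factorial := by
    have h1 : N = (MulAction.toPermHom T (T ⧸ C)).ker := Subgroup.normalCore_eq_ker C
    rw [h1, Subgroup.index_ker]
    calc Nat.card (MulAction.toPermHom T (T ⧸ C)).range
        ≤ Nat.card (Equiv.Perm (T ⧸ C)) :=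
          Nat.card_le_card_of_injective _ (Subgroup.subtype_injective _)
      _ = (Nat.card (T ⧸ C)).factorial := Nat.card_perm
      _ = C.index.factorial := by rw [Subgroup.index_eq_card]
      _ ≤ k.factorial := Nat.factorial_le hk
  -- `N` centralizes the normal closure of `g`
  have hNcent : N ≤ Subgroup.centralizer (Subgroup.normalClosure ({g} : Set T) : Set T) := by
    intro n hn
    have hn' : n ∈ Subgroup.centralizer
        ((Subgroup.closure (Group.conjugatesOfSet ({g} : Set T)) : Subgroup T) : Set T) := by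
      rw [Subgroup.centralizer_closure, Subgroup.mem_centralizer_iff]
      intro x hx
      rw [Group.mem_conjugatesOfSet_iff] at hx
      obtain ⟨a, ha, hax⟩ := hx
      have hag : a = g := ha
      subst hag
      rw [isConj_iff] at hax
      obtain ⟨c, hc⟩ := hax
      -- `c⁻¹ n c ∈ N ≤ C`
      have h2 : c⁻¹ * n * c⁻¹⁻¹ ∈ N := ‹N.Normal›.conj_mem n hn c⁻¹
      have h3 : c⁻¹ * n * c⁻¹⁻¹ ∈ C := Subgroup.normalCore_le C h2
      rw [hC, Subgroup.mem_centralizer_iff] at h3
      have h4 := h3 a rfl
      rw [← hc]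
      have h5 : a * (c⁻¹ * n * c) = c⁻¹ * n * c * a := by
        simpa using h4
      calc c * a * c⁻¹ * n = c * (a * (c⁻¹ * n * c)) * c⁻¹ := by group
        _ = c * (c⁻¹ * n * c * a) * c⁻¹ := by rw [h5]
        _ = n * (c * a * c⁻¹) := by group
    exact hn'
  have hbot : Subgroup.normalClosure ({g} : Set T) ⊓ N = ⊥ := by
    apply le_antisymm _ bot_le
    rw [← hZ]
    exact inf_le_inf_left _ hNcent
  exact (dc2_card_le_index _ N hbot).trans hNidx

end Cfsg.Agent.DC2
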