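import Mathlib
import Cfsg.Agent.Helper4.SolvCentralA

/-!
# S4719, piece C2c (helper4): no solvable normal subgroups passes to normal subgroups

If a finite group `T` has no nontrivial solvable normal subgroup, then neither has any normal
subgroup `M` of `T`: the join `R` of all solvable subgroups of `M` normalized by `M` is again
such a subgroup, it is invariant under conjugation by `T`, hence normal in `T`, hence trivial.
-/

set_option autoImplicit false

namespace Cfsg.Agent.DC2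

universe u

open Subgroup

/-- `H` is a solvable subgroup of `M` invariant under conjugation by `M`. -/
def dc2_bfc_P {T : Type u} [Group T] (M H : Subgroup T) : Prop :=
  H ≤ M ∧ (∀ m ∈ M, H.map (MulAut.conj m).toMonoidHom ≤ H) ∧ Group.IsSolvable ↥H

theorem dc2_bfc_le_normalizer {T : Type u} [Group T] {M H : Subgroup T}
    (h : ∀ m ∈ M, H.map (MulAut.conj m).toMonoidHom ≤ H) : M ≤ normalizer (H : Set T) := by
  intro m hm
  rw [mem_normalizer_iff]
  intro x
  constructor
  · intro hx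
    exact h m hm ⟨x, hx, rfl⟩
  · intro hx
    have h1 := h m⁻¹ (M.inv_mem hm) ⟨m * x * m⁻¹, hx, rfl⟩
    have h2 : (MulAut.conj m⁻¹).toMonoidHom (m * x * m⁻¹) = x := by
      simp only [MulEquiv.coe_toMonoidHom, MulAut.conj_apply]
      group
    rwa [h2] at h1

theorem dc2_bfc_bot {T : Type u} [Group T] (M : Subgroup T) : dc2_bfc_P M ⊥ := by
  refine ⟨bot_le, ?_, ?_⟩
  · intro m _
    rw [Subgroup.map_bot]
  · infer_instance

theorem dc2_bfc_sup {T : Type u} [Group T] {M H₁ H₂ : Subgroup T}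
    (h₁ : dc2_bfc_P M H₁) (h₂ : dc2_bfc_P M H₂) : dc2_bfc_P M (H₁ ⊔ H₂) := by
  refine ⟨sup_le h₁.1 h₂.1, ?_, ?_⟩
  · intro m hm
    rw [Subgroup.map_sup]
    exact sup_le_sup (h₁.2.1 m hm) (h₂.2.1 m hm)
  · exact Cfsg.Agent.Helper4.SolvCentral.isSolvable_sup_of_le_normalizer H₂ H₁ h₂.2.2 h₁.2.2
      (h₁.1.trans (dc2_bfc_le_normalizer h₂.2.1))

theorem dc2_bfc_conj {T : Type u} [Group T] {M H : Subgroup T} [M.Normal]
    (h : dc2_bfc_P M H) (t : T) : dc2_bfc_P M (H.map (MulAut.conj t).toMonoidHom) := by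
  refine ⟨?_, ?_, ?_⟩
  · rintro _ ⟨x, hx, rfl⟩
    simp only [MulEquiv.coe_toMonoidHom, MulAut.conj_apply]
    exact ‹M.Normal›.conj_mem x (h.1 hx) t
  · rintro m hm _ ⟨_, ⟨x, hx, rfl⟩, rfl⟩
    have hm' : t⁻¹ * m * t⁻¹⁻¹ ∈ M := ‹M.Normal›.conj_mem m hm t⁻¹
    have h1 := h.2.1 _ hm' ⟨x, hx, rfl⟩
    refine ⟨_, h1, ?_⟩
    simp only [MulEquiv.coe_toMonoidHom, MulAut.conj_apply]
    group
  · have := h.2.2
    exact Group.isSolvable_of_surjective (f := (MulAut.conj t).toMonoidHom.subgroupMap H)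
      (MonoidHom.subgroupMap_surjective _ _)

/-- **C2c** -/
theorem dc2_nosolv_normal {T : Type u} [Group T] [Finite T]
    (hT : ∀ K : Subgroup T, K.Normal → Group.IsSolvable ↥K → K = ⊥)
    (M : Subgroup T) [M.Normal] (K : Subgroup ↥M) (hK : K.Normal)
    (hKs : Group.IsSolvable ↥K) : K = ⊥ := by
  classical
  have hfin : Set.Finite {H : Subgroup T | dc2_bfc_P M H} := Set.toFinite _
  set R : Subgroup T := hfin.toFinset.sup id with hR
  have hRP : dc2_bfc_P M R := by
    rw [hR]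
    refine Finset.sup_induction (dc2_bfc_bot M) (fun a ha b hb => dc2_bfc_sup ha hb) ?_
    intro H hH
    exact (Set.Finite.mem_toFinset hfin).mp hH
  have hle : ∀ H : Subgroup T, dc2_bfc_P M H → H ≤ R := by
    intro H hH
    exact Finset.le_sup (f := id) ((Set.Finite.mem_toFinset hfin).mpr hH)
  have hRn : R.Normal := by
    constructor
    intro n hn g
    exact hle _ (dc2_bfc_conj hRP g) ⟨n, hn, rfl⟩
  have hRbot : R = ⊥ := hT R hRn hRP.2.2
  have hKP : dc2_bfc_P M (K.map M.subtype) := by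
    refine ⟨Subgroup.map_subtype_le K, ?_, ?_⟩
    · rintro m hm _ ⟨_, ⟨k, hk, rfl⟩, rfl⟩
      refine ⟨(⟨m, hm⟩ : M) * k * (⟨m, hm⟩ : M)⁻¹, hK.conj_mem k hk _, ?_⟩
      simp [MulAut.conj_apply]
    · have := hKs
      exact Group.isSolvable_of_surjective (f := M.subtype.subgroupMap K)
        (MonoidHom.subgroupMap_surjective _ _)
  have h1 : K.map M.subtype ≤ ⊥ := hRbot ▸ hle _ hKP
  exact (Subgroup.map_eq_bot_iff_of_injective K M.subtype_injective).mp (le_bot_iff.mp h1)

end Cfsg.Agent.DC2
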