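import Mathlib
import Cfsg.Agent.DC2.BFA
import Cfsg.Agent.DC2.BFB
import Cfsg.Agent.DC2.BFC

/-!
# S4719, piece C: a Fong-type bound

`dc2_bf`: for every `c` there is `N` such that a finite group `G` without non-trivial solvable normal
subgroups, having an element `x` with `x² = 1` and `|C_G(x)| ≤ c`, has order at most `N`.

The induction runs over groups `T` with an endomorphism `φ`, `φ ∘ φ = id`, with at most `c` fixed
points (`dc2_bf_main`): by the count `dc2_bfa_count` either `|T| < 2c²` or some `g ≠ 1` has a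
centralizer of index `≤ 2c²`; then the normal closure `L₀` of `g` has order `≤ (2c²)!`
(`dc2_closure_card`), `L = L₀ φ(L₀)` is normal, `φ`-invariant, centerless, `M₁ = C_T(L)` has index
`≤ |L|!`, `L ∩ M₁ = 1`, `φ` has a non-trivial fixed point on `L` (`dc2_fpf_comm`), so at most `c/2`
fixed points on `M₁`, which inherits the hypothesis (`dc2_nosolv_normal`).
-/

set_option autoImplicit false
set_option linter.style.haveILetI false

namespace Cfsg.Agent.DC2

universe u

/-- restriction of an endomorphism to an invariant subgroup -/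
def dc2_res {T : Type u} [Group T] (φ : T →* T) (H : Subgroup T) (hH : ∀ t ∈ H, φ t ∈ H) :
    ↥H →* ↥H :=
  (φ.comp H.subtype).codRestrict H (fun t => hH t t.2)

theorem dc2_res_coe {T : Type u} [Group T] (φ : T →* T) (H : Subgroup T)
    (hH : ∀ t ∈ H, φ t ∈ H) (t : ↥H) : ((dc2_res φ H hH t : ↥H) : T) = φ (t : T) := rfl

theorem dc2_res_invol {T : Type u} [Group T] (φ : T →* T) (hφ : ∀ t, φ (φ t) = t) (H : Subgroup T)
    (hH : ∀ t ∈ H, φ t ∈ H) (t : ↥H) : dc2_res φ H hH (dc2_res φ H hH t) = t := by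
  apply Subtype.ext
  rw [dc2_res_coe, dc2_res_coe, hφ]

/-- an abelian normal subgroup is trivial under the hypothesis -/
theorem dc2_bf_abelian {T : Type u} [Group T]
    (hT : ∀ K : Subgroup T, K.Normal → Group.IsSolvable ↥K → K = ⊥) (K : Subgroup T)
    (hK : K.Normal) (hab : ∀ a ∈ K, ∀ b ∈ K, a * b = b * a) : K = ⊥ := by
  apply hT K hK
  apply Group.isSolvable_of_comm
  intro a b
  exact Subtype.ext (hab a a.2 b b.2)

/-- the centre of a normal subgroup is trivial under the hypothesis -/
theorem dc2_bf_center {T : Type u} [Group T]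
    (hT : ∀ K : Subgroup T, K.Normal → Group.IsSolvable ↥K → K = ⊥) (L : Subgroup T)
    [hL : L.Normal] : L ⊓ Subgroup.centralizer (L : Set T) = ⊥ := by
  haveI : (Subgroup.centralizer (L : Set T)).Normal := Subgroup.normal_centralizer
  apply dc2_bf_abelian hT _ inferInstance
  intro a ha b hb
  have h1 : b ∈ Subgroup.centralizer (L : Set T) := hb.2
  exact (Subgroup.mem_centralizer_iff.mp h1 a ha.1)

/-- the order of a join with a normal subgroup -/
theorem dc2_card_sup_le {T : Type u} [Group T] [Finite T] (H K : Subgroup T) [hK : K.Normal] :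
    Nat.card ↥(H ⊔ K) ≤ Nat.card ↥H * Nat.card ↥K := by
  rw [← Nat.card_prod]
  have hmem : ∀ h : ↥H × ↥K, (h.1 : T) * (h.2 : T) ∈ H ⊔ K := fun h =>
    Subgroup.mul_mem _ (Subgroup.mem_sup_left h.1.2) (Subgroup.mem_sup_right h.2.2)
  apply Nat.card_le_card_of_surjective (fun h : ↥H × ↥K => (⟨(h.1 : T) * (h.2 : T), hmem h⟩ : ↥(H ⊔ K)))
  rintro ⟨z, hz⟩
  obtain ⟨y, hy, w, hw, rfl⟩ := Subgroup.mem_sup_of_normal_right.mp hz
  exact ⟨(⟨y, hy⟩, ⟨w, hw⟩), rfl⟩

/-- the inductive step -/
theorem dc2_bf_step {T : Type u} [Group T] [Finite T] (φ : T →* T) (hφ : ∀ t, φ (φ t) = t)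
    (hT : ∀ K : Subgroup T, K.Normal → Group.IsSolvable ↥K → K = ⊥) (c : ℕ)
    (hc : Nat.card {t : T // φ t = t} ≤ c) (N' : ℕ)
    (hN' : ∀ (T' : Type u) [Group T'] [Finite T'] (φ' : T' →* T'), (∀ t, φ' (φ' t) = t) →
      (∀ K : Subgroup T', K.Normal → Group.IsSolvable ↥K → K = ⊥) →
      Nat.card {t : T' // φ' t = t} ≤ c / 2 → Nat.card T' ≤ N') :
    Nat.card T ≤ max (2 * c ^ 2) ((((2 * c ^ 2).factorial) ^ 2).factorial * N') := by
  classical
  rcases dc2_bfa_count φ hφ c hc with h | ⟨g, hg1, hg⟩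
  · exact le_trans h.le (le_max_left _ _)
  refine le_trans ?_ (le_max_right _ _)
  have hφsurj : Function.Surjective φ := fun t => ⟨φ t, hφ t⟩
  -- the index of the centralizer of `g`
  have hidx : (Subgroup.centralizer ({g} : Set T)).index ≤ 2 * c ^ 2 := by
    have h1 := Subgroup.index_mul_card (Subgroup.centralizer ({g} : Set T))
    have hpos : 0 < Nat.card ↥(Subgroup.centralizer ({g} : Set T)) := Nat.card_pos
    rw [← h1] at hg
    exact Nat.le_of_mul_le_mul_right hg hpos
  -- the normal closure of `g`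
  obtain ⟨L0, hL0⟩ : ∃ L0 : Subgroup T, L0 = Subgroup.normalClosure ({g} : Set T) := ⟨_, rfl⟩
  haveI hL0n : L0.Normal := by rw [hL0]; exact Subgroup.normalClosure_normal
  have hgL0 : g ∈ L0 := by
    rw [hL0]
    exact Subgroup.subset_normalClosure (Set.mem_singleton g)
  have hL0card : Nat.card ↥L0 ≤ (2 * c ^ 2).factorial := by
    have hZ := dc2_bf_center hT L0
    rw [hL0] at hZ ⊢
    exact dc2_closure_card g _ hidx hZ
  -- the subgroup `L`
  haveI hL0φn : (L0.map φ).Normal := hL0n.map φ hφsurj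
  obtain ⟨L, hL⟩ : ∃ L : Subgroup T, L = L0 ⊔ L0.map φ := ⟨_, rfl⟩
  haveI hLn : L.Normal := by rw [hL]; infer_instance
  have hgL : g ∈ L := by rw [hL]; exact Subgroup.mem_sup_left hgL0
  have hLcard : Nat.card ↥L ≤ ((2 * c ^ 2).factorial) ^ 2 := by
    rw [hL]
    refine le_trans (dc2_card_sup_le L0 (L0.map φ)) ?_
    have h2 : Nat.card ↥(L0.map φ) ≤ Nat.card ↥L0 :=
      Nat.le_of_dvd Nat.card_pos (Subgroup.card_map_dvd (H := L0) φ)
    rw [sq]
    exact le_trans (Nat.mul_le_mul_left _ h2) (Nat.mul_le_mul hL0card hL0card)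
  have hLφ : ∀ t ∈ L, φ t ∈ L := by
    intro t ht
    have h1 : φ t ∈ L.map φ := Subgroup.mem_map_of_mem φ ht
    have h2 : L.map φ = L := by
      rw [hL, Subgroup.map_sup, Subgroup.map_map]
      have h3 : φ.comp φ = MonoidHom.id T := by
        ext t
        exact hφ t
      rw [h3, Subgroup.map_id, sup_comm]
    rwa [h2] at h1
  have hZL := dc2_bf_center hT L
  -- the centralizer of `L`
  obtain ⟨M1, hM1⟩ : ∃ M1 : Subgroup T, M1 = Subgroup.centralizer (L : Set T) := ⟨_, rfl⟩
  haveI hM1n : M1.Normal := by rw [hM1]; exact Subgroup.normal_centralizer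
  have hM1idx : M1.index ≤ (((2 * c ^ 2).factorial) ^ 2).factorial := by
    rw [hM1]
    exact le_trans (dc2_index_centralizer_le L) (Nat.factorial_le hLcard)
  have hM1φ : ∀ t ∈ M1, φ t ∈ M1 := by
    intro t ht
    rw [hM1] at ht ⊢
    rw [Subgroup.mem_centralizer_iff] at ht ⊢
    intro l hl
    have h1 := ht (φ l) (hLφ l hl)
    have h2 := congrArg φ h1
    rw [map_mul, map_mul, hφ] at h2
    exact h2
  have hLM1 : L ⊓ M1 = ⊥ := by rw [hM1]; exact hZL
  -- a non-trivial fixed point on `L`
  have hfixL : ∃ l ∈ L, φ l = l ∧ l ≠ 1 := by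
    by_contra hcon
    push Not at hcon
    have hcomm := dc2_fpf_comm (dc2_res φ L hLφ) (dc2_res_invol φ hφ L hLφ) (by
      intro t ht
      have h1 : φ (t : T) = (t : T) := by
        have := congrArg Subtype.val ht
        rwa [dc2_res_coe] at this
      exact Subtype.ext (hcon t t.2 h1))
    have hbot : L = ⊥ := by
      apply dc2_bf_abelian hT L hLn
      intro a ha b hb
      exact congrArg Subtype.val (hcomm ⟨a, ha⟩ ⟨b, hb⟩)
    rw [hbot, Subgroup.mem_bot] at hgL
    exact hg1 hgL
  obtain ⟨l0, hl0L, hl0φ, hl01⟩ := hfixL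
  -- the fixed points on `M1`
  have hfixM1 : Nat.card {t : ↥M1 // dc2_res φ M1 hM1φ t = t} ≤ c / 2 := by
    rw [Nat.le_div_iff_mul_le (by norm_num : 0 < 2)]
    refine le_trans ?_ hc
    -- an injection `Bool × Fix(M1) → Fix(T)`
    have hinj : Function.Injective
        (fun q : Bool × {t : ↥M1 // dc2_res φ M1 hM1φ t = t} =>
          (⟨(if q.1 then l0 else 1) * ((q.2 : ↥M1) : T), by
            have h1 : φ (((q.2 : ↥M1) : T)) = ((q.2 : ↥M1) : T) := by
              have := congrArg Subtype.val q.2.2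
              rwa [dc2_res_coe] at this
            rw [map_mul, h1]
            split_ifs
            · rw [hl0φ]
            · rw [map_one]⟩ : {t : T // φ t = t})) := by
      rintro ⟨b, t⟩ ⟨b', t'⟩ heq
      have h1 := congrArg Subtype.val heq
      simp only at h1
      have hmemL : ∀ b : Bool, (if b then l0 else 1) ∈ L := by
        intro b
        split_ifs
        · exact hl0L
        · exact Subgroup.one_mem L
      -- `u⁻¹ u' = t t'⁻¹ ∈ L ⊓ M1`
      have h2 : (if b' then l0 else 1)⁻¹ * (if b then l0 else 1) =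
          ((t' : ↥M1) : T) * ((t : ↥M1) : T)⁻¹ := by
        have : (if b then l0 else 1) = (if b' then l0 else 1) * ((t' : ↥M1) : T) *
            ((t : ↥M1) : T)⁻¹ := by
          rw [← h1]
          group
        rw [this]
        group
      have h3 : (if b' then l0 else 1)⁻¹ * (if b then l0 else 1) ∈ L ⊓ M1 := by
        refine ⟨Subgroup.mul_mem _ (Subgroup.inv_mem _ (hmemL b')) (hmemL b), ?_⟩
        rw [h2]
        exact Subgroup.mul_mem _ t'.1.2 (Subgroup.inv_mem _ t.1.2)
      rw [hLM1, Subgroup.mem_bot] at h3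
      have h4 : (if b then l0 else 1) = (if b' then l0 else 1) := by
        have := inv_mul_eq_one.mp h3
        exact this.symm
      have h5 : b = b' := by
        cases b <;> cases b' <;> simp_all
      have h6 : ((t : ↥M1) : T) = ((t' : ↥M1) : T) := by
        rw [h4] at h1
        exact mul_left_cancel h1
      exact Prod.ext h5 (Subtype.ext (Subtype.ext h6))
    have h7 := Nat.card_le_card_of_injective _ hinj
    rw [Nat.card_prod, Nat.card_eq_fintype_card (α := Bool), Fintype.card_bool, mul_comm] at h7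
    exact h7
  -- induction
  have hM1card := hN' ↥M1 (dc2_res φ M1 hM1φ) (dc2_res_invol φ hφ M1 hM1φ)
    (fun K hK hKs => dc2_nosolv_normal hT M1 K hK hKs) hfixM1
  rw [← Subgroup.index_mul_card M1]
  exact Nat.mul_le_mul hM1idx hM1card

/-- **the bound for an involutory endomorphism** -/
theorem dc2_bf_main : ∀ c : ℕ, ∃ N : ℕ, ∀ (T : Type u) [Group T] [Finite T] (φ : T →* T),
    (∀ t, φ (φ t) = t) → (∀ K : Subgroup T, K.Normal → Group.IsSolvable ↥K → K = ⊥) →
    Nat.card {t : T // φ t = t} ≤ c → Nat.card T ≤ N := by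
  intro c
  induction c using Nat.strong_induction_on with
  | _ c ih =>
    by_cases hc0 : c = 0
    · refine ⟨0, ?_⟩
      intro T _ _ φ _ _ hc
      exfalso
      have hpos : 0 < Nat.card {t : T // φ t = t} := by
        haveI : Nonempty {t : T // φ t = t} := ⟨⟨1, map_one φ⟩⟩
        exact Nat.card_pos
      omega
    · obtain ⟨N', hN'⟩ := ih (c / 2) (Nat.div_lt_self (Nat.pos_of_ne_zero hc0) (by norm_num))
      refine ⟨max (2 * c ^ 2) ((((2 * c ^ 2).factorial) ^ 2).factorial * N'), ?_⟩
      intro T _ _ φ hφ hT hc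
      exact dc2_bf_step φ hφ hT c hc N' hN'

/-- **S4719, piece C**: a finite group without non-trivial solvable normal subgroups and with an
element `x`, `x² = 1`, whose centralizer has order at most `c`, has bounded order. -/
theorem dc2_bf (c : ℕ) : ∃ N : ℕ, ∀ (G : Type u) [Group G] [Finite G] (x : G), x * x = 1 →
    (∀ K : Subgroup G, K.Normal → Group.IsSolvable ↥K → K = ⊥) →
    Nat.card ↥(Subgroup.centralizer ({x} : Set G)) ≤ c → Nat.card G ≤ N := by
  obtain ⟨N, hN⟩ := dc2_bf_main.{u} c
  refine ⟨N, ?_⟩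
  intro G _ _ x hx hG hc
  have hxinv : x⁻¹ = x := inv_eq_of_mul_eq_one_left hx
  refine hN G (MulAut.conj x).toMonoidHom ?_ hG ?_
  · intro t
    show x * (x * t * x⁻¹) * x⁻¹ = t
    rw [hxinv]
    calc x * (x * t * x) * x = (x * x) * t * (x * x) := by group
      _ = t := by rw [hx, one_mul, mul_one]
  · refine le_trans (le_of_eq ?_) hc
    apply Nat.card_congr
    refine Equiv.subtypeEquivRight ?_
    intro t
    rw [Subgroup.mem_centralizer_singleton_iff]
    show x * t * x⁻¹ = t ↔ t * x = x * t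
    constructor
    · intro h
      calc t * x = (x * t * x⁻¹) * x := by rw [h]
        _ = x * t := by group
    · intro h
      calc x * t * x⁻¹ = (t * x) * x⁻¹ := by rw [h]
        _ = t := by group

end Cfsg.Agent.DC2
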