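import Mathlib
import Cfsg.Prelude.Def_Local
import Cfsg.Prelude.Def_CaseTheorems
import Cfsg.Agent.Helper5.Cores
import Cfsg.Agent.Helper5.PPrimeCore
import Cfsg.Agent.Helper4.HallHigman
import Cfsg.Agent.Helper4.SolvPSolv

/-!
# S4719, piece D (group-theoretic part): centralizers in quotients, the solvable radical bound

* `dc2_centralizer_quot`: `|C_{G/R}(gR)| ≤ |C_G(g)|`.
* `dc2_solv_aux`: a solvable normal subgroup `R` of `G` has order at most `b * 2^a * (2^a)!` when every
  normal subgroup of odd order of `G` has order at most `b` and every `2`-subgroup has order at most `2^a`.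
* `dc2_radical_exists`: a largest solvable normal subgroup, the quotient has no nontrivial solvable
  normal subgroup.
* `dc2_gt_aux`: the assembly.
-/

set_option autoImplicit false

universe u

namespace Cfsg.Agent.DC2

/-- `|C_{G/R}(gR)| ≤ |C_G(g)|`. -/
theorem dc2_centralizer_quot {G : Type u} [Group G] [Finite G] (R : Subgroup G) [R.Normal] (g : G) :
    Nat.card ↥(Subgroup.centralizer ({(QuotientGroup.mk g : G ⧸ R)} : Set (G ⧸ R))) ≤
      Nat.card ↥(Subgroup.centralizer ({g} : Set G)) := by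
  classical
  set π : G →* G ⧸ R := QuotientGroup.mk' R with hπ
  have hπs : Function.Surjective π := QuotientGroup.mk'_surjective R
  set Cq := Subgroup.centralizer ({(QuotientGroup.mk g : G ⧸ R)} : Set (G ⧸ R)) with hCq
  set C := Subgroup.centralizer ({g} : Set G) with hC
  set T := Cq.comap π with hT
  -- `|T| = |Cq| * |R|`
  have h1 : Nat.card ↥T = Nat.card ↥Cq * Nat.card ↥R := by
    have e1 : Nat.card ↥T * T.index = Nat.card G := Subgroup.card_mul_index T
    have e2 : T.index = Cq.index := Subgroup.index_comap_of_surjective Cq hπs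
    have e3 : Nat.card ↥Cq * Cq.index = Nat.card (G ⧸ R) := Subgroup.card_mul_index Cq
    have e4 : Nat.card G = Nat.card (G ⧸ R) * Nat.card ↥R :=
      Subgroup.card_eq_card_quotient_mul_card_subgroup R
    have hpos : 0 < Cq.index := Nat.pos_of_ne_zero Subgroup.index_ne_zero_of_finite
    have e5 : Nat.card ↥T * Cq.index = (Nat.card ↥Cq * Nat.card ↥R) * Cq.index := by
      calc Nat.card ↥T * Cq.index = Nat.card ↥T * T.index := by rw [e2]
        _ = (Nat.card ↥Cq * Nat.card ↥R) * Cq.index := by rw [e1, e4, ← e3]; ring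
    exact Nat.eq_of_mul_eq_mul_right hpos e5
  -- `|T| ≤ |R| * |C|`
  have h2 : Nat.card ↥T ≤ Nat.card ↥C * Nat.card ↥R := by
    let _iT : Fintype ↥T := Fintype.ofFinite _
    let _iR : Fintype ↥R := Fintype.ofFinite _
    let _iC : Fintype ↥C := Fintype.ofFinite _
    have hmem : ∀ h : ↥T, (h : G) * g * (h : G)⁻¹ * g⁻¹ ∈ R := by
      intro h
      have h' : π (h : G) ∈ Cq := h.2
      rw [hCq, Subgroup.mem_centralizer_singleton_iff] at h'
      rw [← QuotientGroup.eq_one_iff]
      have h'' : (π (h : G)) * (QuotientGroup.mk g : G ⧸ R) = (QuotientGroup.mk g : G ⧸ R) * π (h : G) := h'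
      have e : ((((h : G) * g * (h : G)⁻¹ * g⁻¹ : G)) : G ⧸ R)
          = π (h : G) * (QuotientGroup.mk g : G ⧸ R) * (π (h : G))⁻¹ * (QuotientGroup.mk g : G ⧸ R)⁻¹ := by
        simp [hπ]
      rw [e, h'']
      group
    let f : ↥T → ↥R := fun h => ⟨(h : G) * g * (h : G)⁻¹ * g⁻¹, hmem h⟩
    have hfib : ∀ b ∈ (Finset.univ : Finset ↥T).image f,
        ((Finset.univ : Finset ↥T).filter (fun a => f a = b)).card ≤ Fintype.card ↥C := by
      intro b hb
      obtain ⟨h₀, -, rfl⟩ := Finset.mem_image.1 hb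
      have hc : ∀ a ∈ (Finset.univ : Finset ↥T).filter (fun a => f a = f h₀),
          (h₀ : G)⁻¹ * (a : G) ∈ C := by
        intro a ha
        have ha' : f a = f h₀ := (Finset.mem_filter.1 ha).2
        have ha'' : (a : G) * g * (a : G)⁻¹ * g⁻¹ = (h₀ : G) * g * (h₀ : G)⁻¹ * g⁻¹ :=
          congrArg (fun z : ↥R => (z : G)) ha'
        rw [hC, Subgroup.mem_centralizer_singleton_iff]
        have e1 : (a : G) * g * (a : G)⁻¹ = (h₀ : G) * g * (h₀ : G)⁻¹ := mul_right_cancel ha''
        calc (h₀ : G)⁻¹ * (a : G) * g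
            = (h₀ : G)⁻¹ * ((a : G) * g * (a : G)⁻¹) * (a : G) := by group
          _ = (h₀ : G)⁻¹ * ((h₀ : G) * g * (h₀ : G)⁻¹) * (a : G) := by rw [e1]
          _ = g * ((h₀ : G)⁻¹ * (a : G)) := by group
      rw [← Finset.card_univ (α := ↥C)]
      refine Finset.card_le_card_of_injOn
        (fun a => if ha : (h₀ : G)⁻¹ * (a : G) ∈ C then (⟨(h₀ : G)⁻¹ * (a : G), ha⟩ : ↥C) else 1)
        (fun a _ => Finset.mem_univ _) ?_
      intro a ha a' ha' haa
      have ha1 := hc a ha
      have ha2 := hc a' ha'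
      simp only [dif_pos ha1, dif_pos ha2] at haa
      have := congrArg (fun z : ↥C => (z : G)) haa
      simp only at this
      exact Subtype.ext (mul_left_cancel this)
    have h3 := Finset.card_le_mul_card_image (f := f) (Finset.univ : Finset ↥T) (Fintype.card ↥C) hfib
    have h4 : ((Finset.univ : Finset ↥T).image f).card ≤ Fintype.card ↥R := Finset.card_le_univ _
    rw [Nat.card_eq_fintype_card, Nat.card_eq_fintype_card, Nat.card_eq_fintype_card]
    calc Fintype.card ↥T = (Finset.univ : Finset ↥T).card := Finset.card_univ.symm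
      _ ≤ Fintype.card ↥C * ((Finset.univ : Finset ↥T).image f).card := h3
      _ ≤ Fintype.card ↥C * Fintype.card ↥R := Nat.mul_le_mul_left _ h4
  have hRpos : 0 < Nat.card ↥R := Nat.card_pos
  rw [h1] at h2
  exact Nat.le_of_mul_le_mul_right h2 hRpos

/-- The `2'`-core is characteristic. -/
theorem dc2_pPrimeCore_char (p : ℕ) (H : Type u) [Group H] :
    (Cfsg.pPrimeCore p H).Characteristic := by
  rw [Subgroup.characteristic_iff_map_le]
  intro φ
  unfold Cfsg.pPrimeCore
  rw [Subgroup.map_le_iff_le_comap]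
  refine sSup_le ?_
  rintro N ⟨hN, hcop⟩
  rw [← Subgroup.map_le_iff_le_comap]
  have hmem : N.map φ.toMonoidHom ∈ {N : Subgroup H | N.Normal ∧ (Nat.card ↥N).Coprime p} := by
    refine ⟨hN.map φ.toMonoidHom φ.surjective, ?_⟩
    rwa [Subgroup.card_map_of_injective φ.injective]
  exact le_sSup hmem

/-- A finite group `T` in which `C_T(Q) ≤ Q` for a normal subgroup `Q` has order at most `|Q| * |Q|!`. -/
theorem dc2_card_le_of_centralizer_le {T : Type u} [Group T] [Finite T] (Q : Subgroup T) [Q.Normal]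
    (hQ : Subgroup.centralizer (Q : Set T) ≤ Q) :
    Nat.card T ≤ Nat.card ↥Q * (Nat.card ↥Q).factorial := by
  classical
  set φ : T →* Equiv.Perm ↥Q := (MulAut.toPerm ↥Q).comp (MulAut.conjNormal (H := Q)) with hφ
  have hker : φ.ker ≤ Q := by
    intro t ht
    apply hQ
    rw [Subgroup.mem_centralizer_iff]
    intro q hq
    have h1 : φ t = 1 := ht
    have h2 : φ t ⟨q, hq⟩ = ⟨q, hq⟩ := by rw [h1]; rfl
    have h3 : ((φ t ⟨q, hq⟩ : ↥Q) : T) = t * q * t⁻¹ := by
      rw [hφ]
      exact MulAut.conjNormal_apply t ⟨q, hq⟩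
    rw [h2] at h3
    simp only at h3
    calc q * t = (t * q * t⁻¹) * t := by rw [← h3]
      _ = t * q := by group
  have e1 : Nat.card ↥φ.ker * φ.ker.index = Nat.card T := Subgroup.card_mul_index _
  have e2 : φ.ker.index = Nat.card ↥φ.range := Subgroup.index_ker φ
  have e3 : Nat.card ↥φ.range ≤ Nat.card (Equiv.Perm ↥Q) := Subgroup.card_le_card_group _
  have e4 : Nat.card (Equiv.Perm ↥Q) = (Nat.card ↥Q).factorial := Nat.card_perm
  have e5 : Nat.card ↥φ.ker ≤ Nat.card ↥Q := Subgroup.card_le_of_le hker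
  calc Nat.card T = Nat.card ↥φ.ker * φ.ker.index := e1.symm
    _ ≤ Nat.card ↥Q * (Nat.card ↥Q).factorial := by
      rw [e2]
      exact Nat.mul_le_mul e5 (e4 ▸ e3)

/-- A solvable normal subgroup `R` of `G` has order at most `b * 2^a * (2^a)!` when every normal
subgroup of odd order of `G` has order at most `b` and every `2`-subgroup of `G` has order at most
`2^a`. -/
theorem dc2_solv_aux {G : Type u} [Group G] [Finite G] (R : Subgroup G) [R.Normal]
    (hR : Group.IsSolvable ↥R) (b a : ℕ)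
    (hodd : ∀ A : Subgroup G, A.Normal → Odd (Nat.card ↥A) → Nat.card ↥A ≤ b)
    (h2 : ∀ Q : Subgroup G, IsPGroup 2 ↥Q → Nat.card ↥Q ≤ 2 ^ a) :
    Nat.card ↥R ≤ b * (2 ^ a * (2 ^ a).factorial) := by
  classical
  have _i2 : Fact (Nat.Prime 2) := ⟨Nat.prime_two⟩
  set A₀ : Subgroup ↥R := Cfsg.pPrimeCore 2 ↥R with hA₀
  have hchar : A₀.Characteristic := dc2_pPrimeCore_char 2 ↥R
  have hAn : (A₀.map R.subtype).Normal := inferInstance
  have hAcard : Nat.card ↥(A₀.map R.subtype) = Nat.card ↥A₀ :=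
    Subgroup.card_map_of_injective R.subtype_injective
  have hcop : (Nat.card ↥A₀).Coprime 2 := Cfsg.Agent.Helper5.coprime_card_pPrimeCore 2
  have hAodd : Odd (Nat.card ↥A₀) := Nat.coprime_two_right.1 hcop
  have hAb : Nat.card ↥A₀ ≤ b := by
    rw [← hAcard]
    exact hodd _ hAn (hAcard.symm ▸ hAodd)
  -- the quotient
  have hTsol : Group.IsSolvable (↥R ⧸ A₀) := inferInstance
  have hTps : Cfsg.IsPSolvable 2 (↥R ⧸ A₀) :=
    Cfsg.Agent.Helper4.SolvPSolv.isPSolvable_of_isSolvable 2 hTsol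
  have hTbot : Cfsg.pPrimeCore 2 (↥R ⧸ A₀) = ⊥ := Cfsg.Agent.Helper4.pPrimeCore_quotient_eq_bot 2
  have hcent := Cfsg.Agent.Helper4.centralizer_pCore_le_of_isPSolvable hTps hTbot
  set Q := Cfsg.pCore 2 (↥R ⧸ A₀) with hQ
  have hT : Nat.card (↥R ⧸ A₀) ≤ Nat.card ↥Q * (Nat.card ↥Q).factorial :=
    dc2_card_le_of_centralizer_le Q hcent
  -- `|Q| ≤ 2^a`
  have hQp : IsPGroup 2 ↥Q := Cfsg.Agent.Helper5.isPGroup_pCore 2
  obtain ⟨k, hk⟩ := hQp.exists_card_eq
  have hdvd : 2 ^ k ∣ Nat.card G := by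
    rw [← hk]
    exact ((Subgroup.card_subgroup_dvd_card Q).trans (Subgroup.card_quotient_dvd_card A₀)).trans
      (Subgroup.card_subgroup_dvd_card R)
  obtain ⟨K, hK⟩ := Sylow.exists_subgroup_card_pow_prime 2 hdvd
  have hKp : IsPGroup 2 ↥K := IsPGroup.of_card hK
  have hQa : Nat.card ↥Q ≤ 2 ^ a := by
    rw [hk, ← hK]
    exact h2 K hKp
  have e : Nat.card ↥R = Nat.card (↥R ⧸ A₀) * Nat.card ↥A₀ :=
    Subgroup.card_eq_card_quotient_mul_card_subgroup A₀
  have e' : Nat.card ↥R = Nat.card ↥A₀ * Nat.card (↥R ⧸ A₀) := by rw [e, mul_comm]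
  rw [e']
  exact le_trans (Nat.mul_le_mul hAb hT)
    (Nat.mul_le_mul_left _ (Nat.mul_le_mul hQa (Nat.factorial_le hQa)))

/-- A solvable normal subgroup of largest order: the quotient by it has no nontrivial solvable
normal subgroup. -/
theorem dc2_radical_exists (G : Type u) [Group G] [Finite G] :
    ∃ R : Subgroup G, ∃ _ : R.Normal, Group.IsSolvable ↥R ∧
      ∀ K : Subgroup (G ⧸ R), K.Normal → Group.IsSolvable ↥K → K = ⊥ := by
  classical
  set S : Set (Subgroup G) := {K | K.Normal ∧ Group.IsSolvable ↥K} with hS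
  have hSfin : S.Finite := Set.toFinite S
  have hSne : S.Nonempty := ⟨⊥, inferInstance, inferInstance⟩
  obtain ⟨R, ⟨hRn, hRs⟩, hmax⟩ := Set.exists_max_image S (fun K => Nat.card ↥K) hSfin hSne
  refine ⟨R, hRn, hRs, ?_⟩
  intro K hKn hKs
  set π : G →* G ⧸ R := QuotientGroup.mk' R with hπ
  have hπs : Function.Surjective π := QuotientGroup.mk'_surjective R
  set K' := K.comap π with hK'
  have hK'n : K'.Normal := hKn.comap π
  have hRK' : R ≤ K' := by
    intro r hr
    rw [hK', Subgroup.mem_comap]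
    have h1 : π r = 1 := (QuotientGroup.eq_one_iff r).2 hr
    rw [h1]
    exact K.one_mem
  have hK's : Group.IsSolvable ↥K' := by
    have _iRs := hRs
    have _iKs := hKs
    refine Group.isSolvable_of_ker_le_range (Subgroup.inclusion hRK') (π.subgroupComap K) ?_
    intro k hk
    have hk1 : (π.subgroupComap K) k = 1 := hk
    have hk2 : π (k : G) = 1 := by
      have h : ((π.subgroupComap K) k : G ⧸ R) = ((1 : ↥K) : G ⧸ R) := congrArg Subtype.val hk1
      exact h
    have hk3 : (k : G) ∈ R := (QuotientGroup.eq_one_iff _).1 hk2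
    exact ⟨⟨(k : G), hk3⟩, Subtype.ext rfl⟩
  have hle : Nat.card ↥K' ≤ Nat.card ↥R := hmax K' ⟨hK'n, hK's⟩
  have heq : R = K' := Subgroup.eq_of_le_of_card_ge hRK' hle
  have hKmap : K = K'.map π := (Subgroup.map_comap_eq_self_of_surjective hπs K).symm
  rw [hKmap, ← heq]
  exact QuotientGroup.map_mk'_self R

/-- Assembly: a bound `b` for the odd normal subgroups, `2^a` for the `2`-subgroups, and `N₀` for
groups without solvable normal subgroups in which an involution has centralizer of order at most `c`,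
bound `|G|`. -/
theorem dc2_gt_aux (c a b N₀ : ℕ) (G : Type u) [Group G] [Finite G] (x : G) (hx : x * x = 1)
    (hcx : Nat.card ↥(Subgroup.centralizer ({x} : Set G)) ≤ c)
    (hodd : ∀ A : Subgroup G, A.Normal → Odd (Nat.card ↥A) → Nat.card ↥A ≤ b)
    (h2 : ∀ Q : Subgroup G, IsPGroup 2 ↥Q → Nat.card ↥Q ≤ 2 ^ a)
    (hbf : ∀ (H : Type u) [Group H] [Finite H] (z : H), z * z = 1 →
      (∀ K : Subgroup H, K.Normal → Group.IsSolvable ↥K → K = ⊥) →
      Nat.card ↥(Subgroup.centralizer ({z} : Set H)) ≤ c → Nat.card H ≤ N₀) :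
    Nat.card G ≤ b * (2 ^ a * (2 ^ a).factorial) * N₀ := by
  obtain ⟨R, hRn, hRs, hRK⟩ := dc2_radical_exists G
  have h1 : Nat.card ↥R ≤ b * (2 ^ a * (2 ^ a).factorial) := dc2_solv_aux R hRs b a hodd h2
  have hxq : (QuotientGroup.mk x : G ⧸ R) * (QuotientGroup.mk x : G ⧸ R) = 1 := by
    rw [← QuotientGroup.mk_mul, hx]
    rfl
  have hcq : Nat.card ↥(Subgroup.centralizer ({(QuotientGroup.mk x : G ⧸ R)} : Set (G ⧸ R))) ≤ c :=
    le_trans (dc2_centralizer_quot R x) hcx
  have h3 : Nat.card (G ⧸ R) ≤ N₀ := hbf (G ⧸ R) (QuotientGroup.mk x) hxq hRK hcq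
  have e : Nat.card G = Nat.card (G ⧸ R) * Nat.card ↥R :=
    Subgroup.card_eq_card_quotient_mul_card_subgroup R
  rw [e, mul_comm]
  exact Nat.mul_le_mul h1 h3

end Cfsg.Agent.DC2
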