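import Mathlib

set_option autoImplicit false

namespace Cfsg.Agent.DC2

universe u

/-- If `b g b⁻¹ = a g a⁻¹` then `b⁻¹ a` centralises `g`. -/
theorem dc2_odd_mem_centralizer_of_conj_eq {G : Type u} [Group G] (g a b : G)
    (h : b * g * b⁻¹ = a * g * a⁻¹) :
    b⁻¹ * a ∈ Subgroup.centralizer ({g} : Set G) := by
  rw [Subgroup.mem_centralizer_iff]
  intro k hk
  rw [Set.mem_singleton_iff] at hk
  subst hk
  calc k * (b⁻¹ * a) = b⁻¹ * (b * k * b⁻¹) * a := by group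
    _ = b⁻¹ * (a * k * a⁻¹) * a := by rw [h]
    _ = b⁻¹ * a * k := by group

/-- If `s` commutes with `d z d⁻¹` then `d⁻¹ s d` centralises `z`. -/
theorem dc2_odd_conj_mem_centralizer {G : Type u} [Group G] (s d z : G)
    (h : Commute s (d * z * d⁻¹)) :
    d⁻¹ * s * d ∈ Subgroup.centralizer ({z} : Set G) := by
  rw [Subgroup.mem_centralizer_iff]
  intro k hk
  rw [Set.mem_singleton_iff] at hk
  subst hk
  have h' : s * (d * k * d⁻¹) = d * k * d⁻¹ * s := h
  calc k * (d⁻¹ * s * d) = d⁻¹ * (d * k * d⁻¹ * s) * d := by group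
    _ = d⁻¹ * (s * (d * k * d⁻¹)) * d := by rw [h']
    _ = d⁻¹ * s * d * k := by group

/-- Abstract key step: `A` odd normal, `z, s, t` of square one with `s t ∈ z A`; then an
`A`-conjugate of `z` commutes with both `s` and `t`. -/
theorem dc2_odd_key_abs {G : Type u} [Group G] [Finite G] (A : Subgroup G) [A.Normal]
    (hA : Odd (Nat.card A)) (z s t : G) (hz2 : z * z = 1) (hs2 : s * s = 1) (ht2 : t * t = 1)
    (hπ : (QuotientGroup.mk' A) (s * t) = (QuotientGroup.mk' A) z) :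
    ∃ d : A, Commute s ((d : G) * z * (d : G)⁻¹) ∧ Commute t ((d : G) * z * (d : G)⁻¹) := by
  have hsinv : s⁻¹ = s := inv_eq_of_mul_eq_one_left hs2
  have htinv : t⁻¹ = t := inv_eq_of_mul_eq_one_left ht2
  have hzinv : z⁻¹ = z := inv_eq_of_mul_eq_one_left hz2
  obtain ⟨w, hw⟩ : ∃ w : G, w = s * t := ⟨_, rfl⟩
  rw [← hw] at hπ
  -- `w * w ∈ A`
  have hww : w * w ∈ A := by
    rw [← QuotientGroup.eq_one_iff (N := A)]
    change (QuotientGroup.mk' A) (w * w) = 1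
    rw [map_mul, hπ, ← map_mul, hz2, map_one]
  obtain ⟨n, hn⟩ : ∃ n : ℕ, n = orderOf (w * w) := ⟨_, rfl⟩
  have hnodd : Odd n := by
    rw [hn]; exact Odd.of_dvd_nat hA (Subgroup.orderOf_dvd_natCard A hww)
  obtain ⟨u, hu⟩ : ∃ u : G, u = w ^ n := ⟨_, rfl⟩
  have hu2 : u * u = 1 := by
    rw [hu, ← (Commute.refl w).mul_pow, hn]; exact pow_orderOf_eq_one _
  have huinv : u⁻¹ = u := inv_eq_of_mul_eq_one_left hu2
  have hπu : (QuotientGroup.mk' A) u = (QuotientGroup.mk' A) z := by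
    rw [hu, map_pow, hπ]
    obtain ⟨k, hk⟩ := hnodd
    rw [hk, pow_succ, pow_mul, ← map_pow, pow_two, hz2, map_one, one_pow, one_mul]
  have ha' : z⁻¹ * u ∈ A := (QuotientGroup.eq (s := A)).1 hπu.symm
  obtain ⟨a', ha'def⟩ : ∃ a' : G, a' = z⁻¹ * u := ⟨_, rfl⟩
  rw [← ha'def] at ha'
  have hua : u = z * a' := by rw [ha'def]; group
  have hinv : z * a' * z⁻¹ = a'⁻¹ := by
    have h1 : z * a' * (z * a') = 1 := by rw [← hua]; exact hu2
    rw [hzinv]
    exact eq_inv_of_mul_eq_one_left (by rw [← h1]; group)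
  obtain ⟨m, hm⟩ : ∃ m : ℕ, m = orderOf a' := ⟨_, rfl⟩
  have hmodd : Odd m := by
    rw [hm]; exact Odd.of_dvd_nat hA (Subgroup.orderOf_dvd_natCard A ha')
  obtain ⟨k, hk⟩ := hmodd
  obtain ⟨b', hb'⟩ : ∃ b' : G, b' = a' ^ (k + 1) := ⟨_, rfl⟩
  have hb'A : b' ∈ A := by rw [hb']; exact A.pow_mem ha' _
  have hb'2 : b' * b' = a' := by
    rw [hb', ← pow_add]
    have h2 : k + 1 + (k + 1) = m + 1 := by omega
    rw [h2, pow_succ, hm, pow_orderOf_eq_one, one_mul]
  have hb'inv : z * b' * z⁻¹ = b'⁻¹ := by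
    rw [hb', ← conj_pow, hinv, inv_pow]
  have hzb : z * b' = b'⁻¹ * z := by
    calc z * b' = (z * b' * z⁻¹) * z := by group
      _ = b'⁻¹ * z := by rw [hb'inv]
  have hdu : b'⁻¹ * z * (b'⁻¹)⁻¹ = u := by
    rw [inv_inv, hua, ← hb'2, ← hzb]; group
  have hsw : s * w * s⁻¹ = w⁻¹ := by
    rw [hsinv, hw, mul_inv_rev, hsinv, htinv]
    calc s * (s * t) * s = (s * s) * t * s := by group
      _ = t * s := by rw [hs2, one_mul]
  have htw : t * w * t⁻¹ = w⁻¹ := by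
    rw [htinv, hw, mul_inv_rev, hsinv, htinv]
    calc t * (s * t) * t = t * s * (t * t) := by group
      _ = t * s := by rw [ht2, mul_one]
  have hsu : s * u * s⁻¹ = u := by
    rw [hu, ← conj_pow, hsw, inv_pow, ← hu, huinv]
  have htu : t * u * t⁻¹ = u := by
    rw [hu, ← conj_pow, htw, inv_pow, ← hu, huinv]
  refine ⟨⟨b'⁻¹, A.inv_mem hb'A⟩, ?_, ?_⟩
  · change s * (b'⁻¹ * z * (b'⁻¹)⁻¹) = b'⁻¹ * z * (b'⁻¹)⁻¹ * s
    rw [hdu]
    calc s * u = (s * u * s⁻¹) * s := by group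
      _ = u * s := by rw [hsu]
  · change t * (b'⁻¹ * z * (b'⁻¹)⁻¹) = b'⁻¹ * z * (b'⁻¹)⁻¹ * t
    rw [hdu]
    calc t * u = (t * u * t⁻¹) * t := by group
      _ = u * t := by rw [htu]

/-- Key step for conjugates of commuting involutions `x`, `y` under an odd normal subgroup. -/
theorem dc2_odd_key {G : Type u} [Group G] [Finite G] (A : Subgroup G) [A.Normal]
    (hA : Odd (Nat.card A)) (x y : G) (hx : x * x = 1) (hy : y * y = 1) (hxy : Commute x y)
    (a b : A) :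
    ∃ d : A, Commute ((a : G) * x * (a : G)⁻¹) ((d : G) * (x * y) * (d : G)⁻¹) ∧
      Commute ((b : G) * y * (b : G)⁻¹) ((d : G) * (x * y) * (d : G)⁻¹) := by
  have hyx : y * x = x * y := hxy.eq.symm
  have hz2 : x * y * (x * y) = 1 := by
    calc x * y * (x * y) = x * (y * x) * y := by group
      _ = x * (x * y) * y := by rw [hyx]
      _ = (x * x) * (y * y) := by group
      _ = 1 := by rw [hx, hy, one_mul]
  have hs2 : (a : G) * x * (a : G)⁻¹ * ((a : G) * x * (a : G)⁻¹) = 1 := by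
    calc (a : G) * x * (a : G)⁻¹ * ((a : G) * x * (a : G)⁻¹)
        = (a : G) * (x * x) * (a : G)⁻¹ := by group
      _ = 1 := by rw [hx]; group
  have ht2 : (b : G) * y * (b : G)⁻¹ * ((b : G) * y * (b : G)⁻¹) = 1 := by
    calc (b : G) * y * (b : G)⁻¹ * ((b : G) * y * (b : G)⁻¹)
        = (b : G) * (y * y) * (b : G)⁻¹ := by group
      _ = 1 := by rw [hy]; group
  have hπa : ∀ a' : A, (QuotientGroup.mk' A) (a' : G) = 1 := fun a' =>
    (QuotientGroup.eq_one_iff (N := A) _).2 a'.2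
  have hπ : (QuotientGroup.mk' A) ((a : G) * x * (a : G)⁻¹ * ((b : G) * y * (b : G)⁻¹)) =
      (QuotientGroup.mk' A) (x * y) := by
    simp only [map_mul, map_inv, hπa, one_mul, mul_one, inv_one]
  exact dc2_odd_key_abs A hA (x * y) _ _ hz2 hs2 ht2 hπ

/-- **(2a)**: an odd normal subgroup `A` of a group with commuting involutions `x ≠ y` whose
centralisers (and that of `x y`) have order at most `c` has order at most `c ^ 4`. -/
theorem dc2_odd {G : Type u} [Group G] [Finite G] (A : Subgroup G) [A.Normal]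
    (hA : Odd (Nat.card A)) (x y : G) (hx : orderOf x = 2) (hy : orderOf y = 2)
    (hxy : Commute x y) (hne : x ≠ y) (c : ℕ)
    (hcx : Nat.card ↥(Subgroup.centralizer ({x} : Set G)) ≤ c)
    (hcy : Nat.card ↥(Subgroup.centralizer ({y} : Set G)) ≤ c)
    (hcxy : Nat.card ↥(Subgroup.centralizer ({x * y} : Set G)) ≤ c) :
    Nat.card ↥A ≤ c ^ 4 := by
  classical
  have hx2 : x * x = 1 := by rw [← pow_two, ← hx]; exact pow_orderOf_eq_one x
  have hy2 : y * y = 1 := by rw [← pow_two, ← hy]; exact pow_orderOf_eq_one y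
  choose dd hdd using fun p : A × A => dc2_odd_key A hA x y hx2 hy2 hxy p.1 p.2
  have hrep : ∀ g : G, ∃ r : G → A, ∀ a : A,
      (r ((a : G) * g * (a : G)⁻¹) : G) * g * (r ((a : G) * g * (a : G)⁻¹) : G)⁻¹ =
        (a : G) * g * (a : G)⁻¹ := by
    intro g
    refine ⟨fun s => if h : ∃ a : A, (a : G) * g * (a : G)⁻¹ = s then h.choose else 1,
      fun a => ?_⟩
    have h : ∃ a' : A, (a' : G) * g * (a' : G)⁻¹ = (a : G) * g * (a : G)⁻¹ := ⟨a, rfl⟩
    simp only [dif_pos h]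
    exact h.choose_spec
  obtain ⟨rx, hrx⟩ := hrep x
  obtain ⟨ry, hry⟩ := hrep y
  let Φ : A × A → A × (Subgroup.centralizer ({x * y} : Set G)) ×
      (Subgroup.centralizer ({x * y} : Set G)) × (Subgroup.centralizer ({x} : Set G)) ×
      (Subgroup.centralizer ({y} : Set G)) := fun p =>
    (dd p,
      ⟨(dd p : G)⁻¹ * ((p.1 : G) * x * (p.1 : G)⁻¹) * (dd p : G),
        dc2_odd_conj_mem_centralizer _ _ _ (hdd p).1⟩,
      ⟨(dd p : G)⁻¹ * ((p.2 : G) * y * (p.2 : G)⁻¹) * (dd p : G),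
        dc2_odd_conj_mem_centralizer _ _ _ (hdd p).2⟩,
      ⟨(rx ((p.1 : G) * x * (p.1 : G)⁻¹) : G)⁻¹ * (p.1 : G),
        dc2_odd_mem_centralizer_of_conj_eq _ _ _ (hrx p.1)⟩,
      ⟨(ry ((p.2 : G) * y * (p.2 : G)⁻¹) : G)⁻¹ * (p.2 : G),
        dc2_odd_mem_centralizer_of_conj_eq _ _ _ (hry p.2)⟩)
  have hΦ : Function.Injective Φ := by
    rintro ⟨a1, b1⟩ ⟨a2, b2⟩ h
    simp only [Φ, Prod.mk.injEq, Subtype.mk.injEq] at h
    obtain ⟨hd, hs, ht, ha, hb⟩ := h
    rw [hd] at hs ht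
    have hs' : (a1 : G) * x * (a1 : G)⁻¹ = (a2 : G) * x * (a2 : G)⁻¹ :=
      mul_left_cancel (mul_right_cancel hs)
    have ht' : (b1 : G) * y * (b1 : G)⁻¹ = (b2 : G) * y * (b2 : G)⁻¹ :=
      mul_left_cancel (mul_right_cancel ht)
    rw [hs'] at ha
    rw [ht'] at hb
    have ha' : (a1 : G) = a2 := mul_left_cancel ha
    have hb' : (b1 : G) = b2 := mul_left_cancel hb
    exact Prod.ext (Subtype.ext ha') (Subtype.ext hb')
  have hcard := Nat.card_le_card_of_injective Φ hΦ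
  simp only [Nat.card_prod] at hcard
  have hApos : 0 < Nat.card ↥A := Nat.card_pos
  have hbound : Nat.card ↥A * Nat.card ↥A ≤ Nat.card ↥A * c ^ 4 := by
    calc Nat.card ↥A * Nat.card ↥A
        ≤ Nat.card ↥A * (Nat.card ↥(Subgroup.centralizer ({x * y} : Set G)) *
          (Nat.card ↥(Subgroup.centralizer ({x * y} : Set G)) *
          (Nat.card ↥(Subgroup.centralizer ({x} : Set G)) *
          Nat.card ↥(Subgroup.centralizer ({y} : Set G))))) := hcard
      _ ≤ Nat.card ↥A * (c * (c * (c * c))) := by gcongr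
      _ = Nat.card ↥A * c ^ 4 := by ring
  exact Nat.le_of_mul_le_mul_left hbound hApos

end Cfsg.Agent.DC2
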