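import Mathlib
import Cfsg.Agent.DC2.GtA
import Cfsg.Agent.DC2.Odd

/-!
# S4719, piece D: `dc2_solv` and the reduction `dc2_gt_of_bf`

`dc2_solv` is step (2b) of the chain: a solvable normal subgroup `R` of a group with two commuting
involutions `x ≠ y` whose three centralizers have order at most `c`, and whose `2`-subgroups have order
at most `2^a`, has order at most `c^4 * 2^a * (2^a)!`.

`dc2_gt_of_bf` is step (2d): the statement `GT(c,a)` follows from the bound (piece C) for groups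
without nontrivial solvable normal subgroups.
-/

set_option autoImplicit false

universe u

namespace Cfsg.Agent.DC2

theorem dc2_solv {G : Type u} [Group G] [Finite G] (R : Subgroup G) [R.Normal]
    (hR : Group.IsSolvable ↥R) (x y : G) (hx : orderOf x = 2) (hy : orderOf y = 2)
    (hxy : Commute x y) (hne : x ≠ y) (c a : ℕ)
    (hcx : Nat.card ↥(Subgroup.centralizer ({x} : Set G)) ≤ c)
    (hcy : Nat.card ↥(Subgroup.centralizer ({y} : Set G)) ≤ c)
    (hcxy : Nat.card ↥(Subgroup.centralizer ({x * y} : Set G)) ≤ c)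
    (h2 : ∀ Q : Subgroup G, IsPGroup 2 ↥Q → Nat.card ↥Q ≤ 2 ^ a) :
    Nat.card ↥R ≤ c ^ 4 * (2 ^ a * (2 ^ a).factorial) := by
  refine dc2_solv_aux R hR (c ^ 4) a ?_ h2
  intro A hAn hAodd
  have _iA := hAn
  exact dc2_odd A hAodd x y hx hy hxy hne c hcx hcy hcxy

/-- `GT(c,a)` from the bound for groups without nontrivial solvable normal subgroups. -/
theorem dc2_gt_of_bf (c a : ℕ)
    (hbf : ∃ N₀ : ℕ, ∀ (H : Type u) [Group H] [Finite H] (z : H), z * z = 1 →
      (∀ K : Subgroup H, K.Normal → Group.IsSolvable ↥K → K = ⊥) →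
      Nat.card ↥(Subgroup.centralizer ({z} : Set H)) ≤ c → Nat.card H ≤ N₀) :
    ∃ N : ℕ, ∀ (G : Type u) [Group G] [Finite G] (x y : G), orderOf x = 2 → orderOf y = 2 →
      Commute x y → x ≠ y →
      Nat.card ↥(Subgroup.centralizer ({x} : Set G)) ≤ c →
      Nat.card ↥(Subgroup.centralizer ({y} : Set G)) ≤ c →
      Nat.card ↥(Subgroup.centralizer ({x * y} : Set G)) ≤ c →
      (∀ Q : Subgroup G, IsPGroup 2 ↥Q → Nat.card ↥Q ≤ 2 ^ a) → Nat.card G ≤ N := by
  obtain ⟨N₀, hN₀⟩ := hbf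
  refine ⟨c ^ 4 * (2 ^ a * (2 ^ a).factorial) * N₀, ?_⟩
  intro G _ _ x y hx hy hxy hne hcx hcy hcxy h2
  have hx2 : x * x = 1 := by rw [← pow_two, ← hx]; exact pow_orderOf_eq_one x
  refine dc2_gt_aux c a (c ^ 4) N₀ G x hx2 hcx ?_ h2 hN₀
  intro A hAn hAodd
  have _iA := hAn
  exact dc2_odd A hAodd x y hx hy hxy hne c hcx hcy hcxy

end Cfsg.Agent.DC2
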