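import Mathlib
import Cfsg.Prelude.Def_Characters
import Cfsg.Prelude.Def_Blocks
import Cfsg.Agent.Helper6.Inflation
import Cfsg.Agent.Helper6.InflationBlocks
import Cfsg.Agent.Helper6.DefectZeroBlock
import Cfsg.Agent.Helper6.OddReal
import Cfsg.Agent.Helper6.PrincipalSolv
import Cfsg.Agent.Helper6.BlockEquiv
import Cfsg.Agent.Helper6.DefectClass

/-!
# S4719, piece A: deficiency class of `G ⧸ Z` for a central subgroup `Z` of order `p`
-/

set_option autoImplicit false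

namespace Cfsg.Agent.DC2

universe u

open Cfsg.Agent.Helper6

/-- Central version of `Helper6.sameBlock_of_inflate_commutator`: irreducible characters of
`G ⧸ Z` (`Z` a central `p`-subgroup) whose inflations lie in the same block lie in the same
block. -/
theorem dc2_sameBlock_of_inflate_central {G : Type u} [Group G] [Finite G] {p : ℕ}
    [hp : Fact p.Prime] {M : Ideal Cfsg.AlgInt} (hM : Cfsg.IsPModular p M) (Z : Subgroup G)
    [Z.Normal] (hZc : Z ≤ Subgroup.center G) (hZ : IsPGroup p Z)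
    (χ ψ : Cfsg.IrrCharacter (G ⧸ Z))
    (hinf : Cfsg.SameBlock M ((χ : G ⧸ Z → ℂ) ∘ QuotientGroup.mk)
      ((ψ : G ⧸ Z → ℂ) ∘ QuotientGroup.mk)) :
    Cfsg.SameBlock M (χ : G ⧸ Z → ℂ) (ψ : G ⧸ Z → ℂ) := by
  apply sameBlock_of_pRegular hM.2.1 p hM.2.2 χ ψ
  intro x hx
  obtain ⟨g, rfl, hg⟩ := exists_pRegular_lift (p := p) Z x hx
  have hgc : g ∈ Subgroup.centralizer (Z : Set G) := by
    rw [Subgroup.mem_centralizer_iff]
    intro u hu
    exact ((Subgroup.mem_center_iff.mp (hZc hu)) g).symm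
  have h1 := hinf g
  rw [centralChar_inflate_of_pRegular Z hZ g hg hgc,
    centralChar_inflate_of_pRegular Z hZ g hg hgc] at h1
  exact h1

/-- The degree of an inflated character. -/
theorem dc2_charDegree_inflate {G : Type u} [Group G] (Z : Subgroup G) [Z.Normal]
    (ψ : G ⧸ Z → ℂ) :
    Cfsg.charDegree (ψ ∘ QuotientGroup.mk) = Cfsg.charDegree ψ := by
  unfold Cfsg.charDegree
  rw [Function.comp_apply, QuotientGroup.mk_one]

/-- **S4719, step (1)**: if every nonprincipal `p`-block of `G` has defect `< r + 1` and `Z` is a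
central subgroup of order `p`, then every nonprincipal `p`-block of `G ⧸ Z` has defect `< r`. -/
theorem dc2_quot {G : Type u} [Group G] [Finite G] (p : ℕ) [Fact p.Prime]
    (M : Ideal Cfsg.AlgInt) (hM : Cfsg.IsPModular p M) (Z : Subgroup G) [Z.Normal]
    (hZc : Z ≤ Subgroup.center G) (hZ : Nat.card ↥Z = p) (r : ℕ)
    (h : ∀ B' : Set (Cfsg.IrrCharacter G), Cfsg.IsPBlock M B' →
      B' ≠ Cfsg.principalBlock M G → Cfsg.blockDefect p B' < r + 1) :
    ∀ B' : Set (Cfsg.IrrCharacter (G ⧸ Z)), Cfsg.IsPBlock M B' →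
      B' ≠ Cfsg.principalBlock M (G ⧸ Z) → Cfsg.blockDefect p B' < r := by
  intro B' hB' hne
  obtain ⟨χbar, rfl⟩ := hB'
  have hp : p.Prime := Fact.out
  have hZp : IsPGroup p Z := IsPGroup.of_card (n := 1) (by rw [hZ, pow_one])
  -- the inflation of `χbar` and its block
  obtain ⟨χ, hχ⟩ : ∃ χ : Cfsg.IrrCharacter G,
      (χ : G → ℂ) = (χbar : G ⧸ Z → ℂ) ∘ QuotientGroup.mk :=
    ⟨⟨_, isIrrCharacter_inflate Z χbar⟩, rfl⟩
  have hb : Cfsg.IsPBlock M (Cfsg.blockOf M (χ : G → ℂ)) := ⟨χ, rfl⟩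
  have hbne : Cfsg.blockOf M (χ : G → ℂ) ≠ Cfsg.principalBlock M G := by
    intro hbp
    apply hne
    have hχp : χ ∈ Cfsg.principalBlock M G := by
      rw [← hbp]; exact mem_blockOf_self hM.2.1 χ
    have h1 : Cfsg.SameBlock M (fun _ : G => (1 : ℂ)) (χ : G → ℂ) := hχp
    obtain ⟨one', hone'⟩ : ∃ o : Cfsg.IrrCharacter (G ⧸ Z),
        (o : G ⧸ Z → ℂ) = fun _ => (1 : ℂ) := ⟨⟨_, isIrrCharacter_one⟩, rfl⟩
    have h2 : Cfsg.SameBlock M ((one' : G ⧸ Z → ℂ) ∘ QuotientGroup.mk)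
        ((χbar : G ⧸ Z → ℂ) ∘ QuotientGroup.mk) := by
      rw [hone', ← hχ]
      exact h1
    have h3 := dc2_sameBlock_of_inflate_central hM Z hZc hZp one' χbar h2
    rw [hone'] at h3
    exact (blockOf_eq_of_sameBlock hM.2.1 h3).symm
  have hdef := h _ hb hbne
  -- numerics
  have hcard : Nat.card G = Nat.card (G ⧸ Z) * p := by
    rw [← hZ]; exact Subgroup.card_eq_card_quotient_mul_card_subgroup Z
  have hq0 : Nat.card (G ⧸ Z) ≠ 0 := Nat.card_pos.ne'
  have ha : (Nat.card G).factorization p = (Nat.card (G ⧸ Z)).factorization p + 1 := by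
    rw [hcard, Nat.factorization_mul hq0 hp.ne_zero, Finsupp.add_apply,
      Nat.Prime.factorization_self hp]
  -- the two sets of exponents
  obtain ⟨S, hS⟩ : ∃ S : Set ℕ, S = (fun ψ : Cfsg.IrrCharacter G =>
      (Cfsg.charDegree (ψ : G → ℂ)).factorization p) '' Cfsg.blockOf M (χ : G → ℂ) := ⟨_, rfl⟩
  obtain ⟨S', hS'⟩ : ∃ S' : Set ℕ, S' = (fun ψ : Cfsg.IrrCharacter (G ⧸ Z) =>
      (Cfsg.charDegree (ψ : G ⧸ Z → ℂ)).factorization p) ''
        Cfsg.blockOf M (χbar : G ⧸ Z → ℂ) := ⟨_, rfl⟩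
  have hmem : (Cfsg.charDegree (χbar : G ⧸ Z → ℂ)).factorization p ∈ S' := by
    rw [hS']; exact ⟨χbar, mem_blockOf_self hM.2.1 χbar, rfl⟩
  have hS'ne : S'.Nonempty := ⟨_, hmem⟩
  have hsub : S' ⊆ S := by
    intro m hm
    rw [hS'] at hm
    obtain ⟨ψbar, hψ, rfl⟩ := hm
    rw [hS]
    refine ⟨⟨_, isIrrCharacter_inflate Z ψbar⟩, ?_, ?_⟩
    · show Cfsg.SameBlock M (χ : G → ℂ) ((ψbar : G ⧸ Z → ℂ) ∘ QuotientGroup.mk)
      rw [hχ]
      exact sameBlock_inflate hM.2.1 Z _ _ hψ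
    · show (Cfsg.charDegree ((ψbar : G ⧸ Z → ℂ) ∘ QuotientGroup.mk)).factorization p = _
      rw [dc2_charDegree_inflate]
  have hle : sInf S ≤ sInf S' := Nat.sInf_le (hsub (Nat.sInf_mem hS'ne))
  have hle2 : sInf S' ≤ (Nat.card (G ⧸ Z)).factorization p := by
    refine (Nat.sInf_le hmem).trans ?_
    have hdvd : Cfsg.charDegree (χbar : G ⧸ Z → ℂ) ∣ Nat.card (G ⧸ Z) :=
      charDegree_dvd_card χbar.2
    have hd0 : Cfsg.charDegree (χbar : G ⧸ Z → ℂ) ≠ 0 := ne_zero_of_dvd_ne_zero hq0 hdvd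
    exact (Nat.factorization_le_iff_dvd hd0 hq0).2 hdvd p
  unfold Cfsg.blockDefect at hdef ⊢
  rw [← hS] at hdef
  rw [← hS']
  omega

end Cfsg.Agent.DC2
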