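import Mathlib
import Cfsg.Agent.S4717
import Cfsg.Agent.S4718
import Cfsg.Agent.DC2.BF
import Cfsg.Agent.DC2.GtS
import Cfsg.Agent.DC2.Quot

/-!
# S4719: the final induction

`dc2_phi r a`: there is a bound for the order of the groups with Sylow `2`-subgroups of order `2^a`,
`2`-deficiency class `r` and an elementary abelian subgroup of order `2^(r+1)`.

Induction on `r`.  `r = 0` is S4718.  For `r + 1`: for every `x ≠ 1` in `E` the group
`C_G(x) / ⟨x⟩` has deficiency class `r` (S4717 and `dc2_quot`), contains the image of `E`, of order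
`2^(r+1)`, and its Sylow `2`-subgroups have order `2^a'` with `a' < a`; so `|C_G(x)|` is bounded, and
`dc2_gt_of_bf` with `dc2_bf` bounds `|G|`.
-/

set_option autoImplicit false
set_option linter.style.haveILetI false

namespace Cfsg.Agent.DC2

universe u

/-- a subgroup of the centre is normal -/
theorem dc2_fin_normal_of_le_center {H : Type u} [Group H] (Z : Subgroup H)
    (hZ : Z ≤ Subgroup.center H) : Z.Normal := by
  refine ⟨fun n hn g => ?_⟩
  have h := Subgroup.mem_center_iff.mp (hZ hn) g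
  have : g * n * g⁻¹ = n := by rw [h]; group
  rw [this]
  exact hn

/-- the order of the image of a subgroup containing the kernel -/
theorem dc2_fin_card_map {H : Type u} [Group H] [Finite H] (Z E : Subgroup H) [Z.Normal]
    (hZE : Z ≤ E) :
    Nat.card ↥(E.map (QuotientGroup.mk' Z)) * Nat.card ↥Z = Nat.card ↥E := by
  have h1 : (E.map (QuotientGroup.mk' Z)).index = E.index := by
    rw [← Subgroup.index_comap_of_surjective (E.map (QuotientGroup.mk' Z))
      (QuotientGroup.mk'_surjective Z), QuotientGroup.comap_map_mk', sup_eq_right.mpr hZE]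
  have h2 := Subgroup.card_mul_index (E.map (QuotientGroup.mk' Z))
  have h3 := Subgroup.card_mul_index E
  have h4 := Subgroup.card_eq_card_quotient_mul_card_subgroup Z
  rw [h1] at h2
  have hpos : 0 < E.index := Nat.pos_of_ne_zero Subgroup.index_ne_zero_of_finite
  apply Nat.eq_of_mul_eq_mul_right hpos
  calc Nat.card ↥(E.map (QuotientGroup.mk' Z)) * Nat.card ↥Z * E.index
      = Nat.card ↥(E.map (QuotientGroup.mk' Z)) * E.index * Nat.card ↥Z := by ring
    _ = Nat.card (H ⧸ Z) * Nat.card ↥Z := by rw [h2]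
    _ = Nat.card H := h4.symm
    _ = Nat.card ↥E * E.index := h3.symm

/-- **the centralizer bound**: under deficiency class `r + 1`, the centralizer of a non-identity
element of an elementary abelian subgroup of order `2^(r+2)` is bounded through the bounds for
deficiency class `r`. -/
theorem dc2_fin_cent {G : Type u} [Group G] [Finite G] (M : Ideal Cfsg.AlgInt)
    (hM : Cfsg.IsPModular 2 M) (r a : ℕ) (ha : (Nat.card G).factorization 2 = a)
    (hdef : ∀ B : Set (Cfsg.IrrCharacter G), Cfsg.IsPBlock M B → B ≠ Cfsg.principalBlock M G →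
      Cfsg.blockDefect 2 B < r + 1)
    (E : Subgroup G) (hEc : ∀ u ∈ E, ∀ v ∈ E, u * v = v * u) (hE2 : ∀ x ∈ E, x * x = 1)
    (hEcard : Nat.card E = 2 ^ (r + 2)) (Nf : ℕ → ℕ)
    (hNf : ∀ a' : ℕ, ∀ (H : Type u) [Group H] [Finite H] (M : Ideal Cfsg.AlgInt) (P : Sylow 2 H),
      Cfsg.IsPModular 2 M → Nat.card P = 2 ^ a' →
      (∀ B : Set (Cfsg.IrrCharacter H), Cfsg.IsPBlock M B → B ≠ Cfsg.principalBlock M H →
        Cfsg.blockDefect 2 B < r) →
      (∃ E' : Subgroup H, E' ≤ (P : Subgroup H) ∧ IsMulCommutative E' ∧ (∀ x ∈ E', x * x = 1) ∧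
        Nat.card E' = 2 ^ (r + 1)) → Nat.card H ≤ Nf a')
    (x : G) (hxE : x ∈ E) (hx1 : x ≠ 1) :
    Nat.card ↥(Subgroup.centralizer ({x} : Set G)) ≤ 2 * (Finset.range a).sup Nf := by
  classical
  obtain ⟨C, hC⟩ : ∃ C : Subgroup G, C = Subgroup.centralizer ({x} : Set G) := ⟨_, rfl⟩
  rw [← hC]
  have hxC : x ∈ C := by rw [hC]; exact Subgroup.mem_centralizer_singleton_iff.mpr rfl
  have hx2 : orderOf x = 2 := orderOf_eq_prime (by rw [pow_two]; exact hE2 x hxE) hx1
  -- deficiency class of `C`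
  have hdefC : ∀ B' : Set (Cfsg.IrrCharacter ↥C), Cfsg.IsPBlock M B' →
      B' ≠ Cfsg.principalBlock M ↥C → Cfsg.blockDefect 2 B' < r + 1 := by
    rw [hC]
    exact (Cfsg.Agent.S4717.result 2 M hM (r + 1)).1 hdef x ⟨1, by rw [hx2, pow_one]⟩
  -- the central subgroup `Z`
  obtain ⟨Z, hZ⟩ : ∃ Z : Subgroup ↥C, Z = Subgroup.zpowers (⟨x, hxC⟩ : ↥C) := ⟨_, rfl⟩
  have hZc : Z ≤ Subgroup.center ↥C := by
    rw [hZ, Subgroup.zpowers_le, Subgroup.mem_center_iff]
    intro g
    apply Subtype.ext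
    have hg : (g : G) ∈ Subgroup.centralizer ({x} : Set G) := by rw [← hC]; exact g.2
    exact Subgroup.mem_centralizer_singleton_iff.mp hg
  haveI hZn : Z.Normal := dc2_fin_normal_of_le_center Z hZc
  have hZcard : Nat.card ↥Z = 2 := by
    rw [hZ, Nat.card_zpowers, Subgroup.orderOf_mk, hx2]
  have hdefQ := dc2_quot 2 M hM Z hZc hZcard r hdefC
  -- the image of `E`
  have hEC : E ≤ C := by
    intro e he
    rw [hC, Subgroup.mem_centralizer_singleton_iff]
    exact hEc e he x hxE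
  obtain ⟨E', hE'⟩ : ∃ E' : Subgroup ↥C, E' = E.subgroupOf C := ⟨_, rfl⟩
  have hE'card : Nat.card ↥E' = 2 ^ (r + 2) := by
    rw [hE', ← hEcard]
    exact Nat.card_congr (Subgroup.subgroupOfEquivOfLe hEC).toEquiv
  have hZE' : Z ≤ E' := by
    rw [hZ, Subgroup.zpowers_le, hE', Subgroup.mem_subgroupOf]
    exact hxE
  obtain ⟨Ebar, hEbar⟩ : ∃ Ebar : Subgroup (↥C ⧸ Z), Ebar = E'.map (QuotientGroup.mk' Z) :=
    ⟨_, rfl⟩
  have hEbarcard : Nat.card ↥Ebar = 2 ^ (r + 1) := by
    have h1 := dc2_fin_card_map Z E' hZE'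
    rw [← hEbar, hZcard, hE'card, pow_succ] at h1
    exact Nat.eq_of_mul_eq_mul_right (by norm_num) h1
  have hEbar2 : ∀ z ∈ Ebar, z * z = 1 := by
    intro z hz
    rw [hEbar] at hz
    obtain ⟨e, he, rfl⟩ := Subgroup.mem_map.mp hz
    rw [← map_mul]
    have he' : (e : G) ∈ E := by rw [hE'] at he; exact Subgroup.mem_subgroupOf.mp he
    have : e * e = 1 := Subtype.ext (hE2 e he')
    rw [this, map_one]
  have hEbarc : IsMulCommutative ↥Ebar := by
    refine ⟨⟨?_⟩⟩
    rintro ⟨z, hz⟩ ⟨w, hw⟩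
    apply Subtype.ext
    show z * w = w * z
    rw [hEbar] at hz hw
    obtain ⟨e, he, rfl⟩ := Subgroup.mem_map.mp hz
    obtain ⟨f, hf, rfl⟩ := Subgroup.mem_map.mp hw
    rw [← map_mul, ← map_mul]
    have he' : (e : G) ∈ E := by rw [hE'] at he; exact Subgroup.mem_subgroupOf.mp he
    have hf' : (f : G) ∈ E := by rw [hE'] at hf; exact Subgroup.mem_subgroupOf.mp hf
    have : e * f = f * e := Subtype.ext (hEc e he' f hf')
    rw [this]
  -- a Sylow subgroup of the quotient containing the image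
  obtain ⟨Pbar, hPbar⟩ := (IsPGroup.of_card hEbarcard).exists_le_sylow
  -- orders
  have hcardC : Nat.card ↥C = Nat.card (↥C ⧸ Z) * 2 := by
    rw [← hZcard]
    exact Subgroup.card_eq_card_quotient_mul_card_subgroup Z
  obtain ⟨a', ha'⟩ : ∃ a', a' = (Nat.card (↥C ⧸ Z)).factorization 2 := ⟨_, rfl⟩
  have hPbarcard : Nat.card ↥(Pbar : Subgroup (↥C ⧸ Z)) = 2 ^ a' := by
    rw [ha']
    exact Sylow.card_eq_multiplicity Pbar
  have ha'lt : a' < a := by
    have h1 : 2 ^ a' ∣ Nat.card (↥C ⧸ Z) := by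
      rw [ha']
      exact Nat.ordProj_dvd _ _
    have h2 : 2 ^ (a' + 1) ∣ Nat.card ↥C := by
      rw [hcardC, pow_succ]
      exact Nat.mul_dvd_mul_right h1 2
    have h3 : 2 ^ (a' + 1) ∣ Nat.card G := h2.trans (Subgroup.card_subgroup_dvd_card C)
    have h4 := (Nat.Prime.pow_dvd_iff_le_factorization Nat.prime_two
      (Nat.card_pos (α := G)).ne').mp h3
    omega
  have hbound := hNf a' (↥C ⧸ Z) M Pbar hM hPbarcard hdefQ
    ⟨Ebar, hPbar, hEbarc, hEbar2, hEbarcard⟩
  have hsup : Nf a' ≤ (Finset.range a).sup Nf := Finset.le_sup (Finset.mem_range.mpr ha'lt)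
  rw [hcardC, mul_comm]
  exact Nat.mul_le_mul_left 2 (le_trans hbound hsup)

/-- all `2`-subgroups are bounded by the Sylow order -/
theorem dc2_fin_two_le {G : Type u} [Group G] [Finite G] (a : ℕ)
    (ha : (Nat.card G).factorization 2 = a) (Q : Subgroup G) (hQ : IsPGroup 2 ↥Q) :
    Nat.card ↥Q ≤ 2 ^ a := by
  obtain ⟨P', hP'⟩ := hQ.exists_le_sylow
  have h1 : Nat.card ↥(P' : Subgroup G) = 2 ^ a := by
    rw [← ha]
    exact Sylow.card_eq_multiplicity P'
  rw [← h1]
  exact Subgroup.card_le_of_le hP'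

/-- **the bound for deficiency class `r`** -/
theorem dc2_phi (r : ℕ) : ∀ a : ℕ, ∃ N : ℕ, ∀ (G : Type u) [Group G] [Finite G]
    (M : Ideal Cfsg.AlgInt) (P : Sylow 2 G), Cfsg.IsPModular 2 M → Nat.card P = 2 ^ a →
    (∀ B : Set (Cfsg.IrrCharacter G), Cfsg.IsPBlock M B → B ≠ Cfsg.principalBlock M G →
      Cfsg.blockDefect 2 B < r) →
    (∃ E : Subgroup G, E ≤ (P : Subgroup G) ∧ IsMulCommutative E ∧ (∀ x ∈ E, x * x = 1) ∧
      Nat.card E = 2 ^ (r + 1)) → Nat.card G ≤ N := by
  induction r with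
  | zero =>
    intro a
    obtain ⟨N, hN⟩ := Cfsg.Agent.S4718.result.{u} 2 a
    refine ⟨N, ?_⟩
    intro G _ _ M P hM hP hdef _
    have ha : (Nat.card G).factorization 2 = a := by
      have h1 := Sylow.card_eq_multiplicity P
      rw [hP] at h1
      exact (Nat.pow_right_injective (le_refl 2) h1).symm
    apply hN G M hM ha
    intro B hB
    by_contra hne
    exact Nat.not_lt_zero _ (hdef B hB hne)
  | succ r ih =>
    intro a
    choose Nf hNf using ih
    obtain ⟨N, hN⟩ := dc2_gt_of_bf.{u} (2 * (Finset.range a).sup Nf) a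
      (dc2_bf.{u} (2 * (Finset.range a).sup Nf))
    refine ⟨N, ?_⟩
    intro G _ _ M P hM hP hdef hE
    obtain ⟨E, hEP, hEc, hE2, hEcard⟩ := hE
    have ha : (Nat.card G).factorization 2 = a := by
      have h1 := Sylow.card_eq_multiplicity P
      rw [hP] at h1
      exact (Nat.pow_right_injective (le_refl 2) h1).symm
    have hEc' : ∀ u ∈ E, ∀ v ∈ E, u * v = v * u := fun u hu v hv =>
      congrArg Subtype.val (hEc.is_comm.comm ⟨u, hu⟩ ⟨v, hv⟩)
    have hcent := dc2_fin_cent M hM r a ha hdef E hEc' hE2 hEcard Nf hNf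
    -- two different non-identity elements of `E`
    have h4 : 4 ≤ Nat.card ↥E := by
      rw [hEcard, show r + 1 + 1 = r + 2 from rfl, pow_add]
      have : 1 ≤ 2 ^ r := Nat.one_le_two_pow
      omega
    obtain ⟨x, hxE, hx1⟩ : ∃ x ∈ E, x ≠ 1 := by
      by_contra hcon
      push Not at hcon
      have hbot : E = ⊥ := (Subgroup.eq_bot_iff_forall E).mpr hcon
      rw [hbot, Subgroup.card_bot] at h4
      omega
    have hx2 : orderOf x = 2 := orderOf_eq_prime (by rw [pow_two]; exact hE2 x hxE) hx1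
    obtain ⟨y, hyE, hy1, hyx⟩ : ∃ y ∈ E, y ≠ 1 ∧ y ≠ x := by
      by_contra hcon
      push Not at hcon
      have hle : E ≤ Subgroup.zpowers x := by
        intro e he
        by_cases he1 : e = 1
        · rw [he1]; exact Subgroup.one_mem _
        · rw [hcon e he he1]; exact Subgroup.mem_zpowers x
      have h5 := Subgroup.card_le_of_le hle
      rw [Nat.card_zpowers, hx2] at h5
      omega
    have hy2 : orderOf y = 2 := orderOf_eq_prime (by rw [pow_two]; exact hE2 y hyE) hy1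
    have hxyE : x * y ∈ E := Subgroup.mul_mem E hxE hyE
    have hxy1 : x * y ≠ 1 := by
      intro h
      apply hyx
      have h1 : x * x = 1 := hE2 x hxE
      have : x * y = x * x := by rw [h, h1]
      exact mul_left_cancel this
    exact hN G x y hx2 hy2 (hEc' x hxE y hyE) (Ne.symm hyx) (hcent x hxE hx1) (hcent y hyE hy1)
      (hcent (x * y) hxyE hxy1) (dc2_fin_two_le a ha)

/-- **S4719** -/
theorem dc2_final (a : ℕ) : ∃ N : ℕ, ∀ (G : Type u) [Group G] [Finite G] (M : Ideal Cfsg.AlgInt)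
    (r : ℕ) (P : Sylow 2 G), Cfsg.IsPModular 2 M → Nat.card P = 2 ^ a →
    (∀ B : Set (Cfsg.IrrCharacter G), Cfsg.IsPBlock M B → B ≠ Cfsg.principalBlock M G →
      Cfsg.blockDefect 2 B < r) →
    (∃ E : Subgroup G, E ≤ (P : Subgroup G) ∧ IsMulCommutative E ∧ (∀ x ∈ E, x * x = 1) ∧
      Nat.card E = 2 ^ (r + 1)) → Nat.card G ≤ N := by
  have hall := fun r : ℕ => dc2_phi.{u} r a
  choose Nr hNr using hall
  refine ⟨(Finset.range a).sup Nr, ?_⟩
  intro G _ _ M r P hM hP hdef hE
  have hra : r < a := by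
    obtain ⟨E, hEP, -, -, hEcard⟩ := hE
    have h1 := Subgroup.card_le_of_le hEP
    rw [hEcard, hP] at h1
    have := (Nat.pow_le_pow_iff_right (le_refl 2)).mp h1
    omega
  exact le_trans (hNr r G M P hM hP hdef hE) (Finset.le_sup (Finset.mem_range.mpr hra))

end Cfsg.Agent.DC2
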